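import Cfsg.Agent.H722.HC.SpFour
import Cfsg.Agent.H749.TwoRows

/-!
# `PSp_4(q)`: two characters of degree divisible by an odd prime `r ∣ q - 1` (helper722, for helper749's `Sp4Two`)
-/

set_option autoImplicit false

open scoped ComplexConjugate
open Cfsg

namespace Cfsg.Agent.H722.HC

open Cfsg.Agent.Characters Module Cfsg.Agent.H53.HC Cfsg.Agent.H477.HC Cfsg.Agent.H749.Two

universe u v w

/-- **the characters of `Sp_4(q)` of degrees `q (q² + 1) dim τ` and `(q² + 1) dim τ`** -/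
theorem exists_pair4 (K : Type u) [Field K] [Fintype K] {M : Type v} [AddCommGroup M] [Module ℂ M]
    [FiniteDimensional ℂ M] {τ : Representation ℂ (CForm.spF K 1).iso M} (hτi : τ.IsIrreducible) (hτ : Cu τ) :
    ∃ (χ χ' : (CForm.spF K 2).iso → ℂ) (d d' D : ℕ), IsIrrCharacter _ χ ∧ IsIrrCharacter _ χ' ∧ χ 1 = (d : ℂ) ∧
      χ' 1 = (d' : ℂ) ∧ (Nat.card K + 1) * d = Nat.card K * (D * finrank ℂ M) ∧
      (Nat.card K + 1) * d' = D * finrank ℂ M ∧
      ((∀ z : (CForm.spF K 1).iso, (∀ x, (z : (Fin 1 ⊕ Fin 1 → K) ≃ₗ[K] (Fin 1 ⊕ Fin 1 → K)) x = -x) → τ z = 1) →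
        ∀ z : (CForm.spF K 2).iso,
          (∀ v, (z : (Fin 2 ⊕ Fin 2 → K) ≃ₗ[K] (Fin 2 ⊕ Fin 2 → K)) v = (-1 : K) • v) → χ z = χ 1 ∧ χ' z = χ' 1) := by
  classical
  have hq1 : 1 < Nat.card K := Finite.one_lt_card
  obtain ⟨e, f, j, h⟩ := CForm.frm_sp (K := K) (k := 1) (n := 1) (m := 2) rfl
  obtain ⟨w, hw1, hw2, hw3⟩ := h.exists_w
  obtain ⟨ρ, hρ, hρs⟩ := exists_isRho h
  have := finite_iso (CForm.spF K 2)
  let _ : Fintype (CForm.spF K 2).iso := Fintype.ofFinite _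
  let _ : Fintype (Pp K e) := Fintype.ofFinite _
  let _ : Fintype (CForm.Us (CForm.spF K 2) e) := Fintype.ofFinite _
  have hdd := hd hw1 hw2 hw3 h hρ hτ
  obtain ⟨hU, hA⟩ := sum_rr hw1 hw2 hw3 h hρ hτ
  have hirr : IsIrrCharacter (Pp K e) (Representation.character
      (MonoidHom.comp τ ρ : Representation ℂ (Pp K e) M)) :=
    Core.isIrr_comp ρ hρs (Core.isIrrCharacter_of_rep τ hτi)
  have hq0 : (Nat.card K : ℂ) ≠ 0 := Nat.cast_ne_zero.2 (by omega)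
  rw [← Nat.card_eq_fintype_card] at hU hA
  obtain ⟨χ, χ₂, hχ, hχ₂, hχ1, hχ₂1, hχz⟩ := hdd.exists_chars hirr hA (lam := Nat.card K)
    (mu := -(Nat.card K : ℂ) ^ 2) (by ring) (by rw [hU]; push_cast; ring) (by
      intro h1
      have h2 : (Nat.card K : ℂ) * (1 + Nat.card K) = 0 := by linear_combination h1
      have h3 : (1 + (Nat.card K : ℂ)) ≠ 0 := by
        have : ((1 + Nat.card K : ℕ) : ℂ) ≠ 0 := Nat.cast_ne_zero.2 (by omega)
        push_cast at this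
        exact this
      exact (mul_eq_zero.1 h2).elim hq0 h3)
  obtain ⟨d, -, hd⟩ := Core.isIrr_apply_one hχ
  obtain ⟨d', -, hd'⟩ := Core.isIrr_apply_one hχ₂
  have h1 : Representation.character (MonoidHom.comp τ ρ : Representation ℂ (Pp K e) M) 1 = (finrank ℂ M : ℂ) :=
    Representation.char_one _
  refine ⟨χ, χ₂, d, d', (Pp K e).index, hχ, hχ₂, hd, hd', ?_, ?_, fun hτ1 z hzv => ?_⟩
  · rw [hd, h1] at hχ1
    have h2 : (Nat.card K : ℂ) * (((Nat.card K + 1) * d : ℕ) : ℂ) =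
        (Nat.card K : ℂ) * ((Nat.card K * ((Pp K e).index * finrank ℂ M) : ℕ) : ℂ) := by
      push_cast
      linear_combination hχ1
    exact_mod_cast mul_left_cancel₀ hq0 h2
  · rw [hd', h1] at hχ₂1
    have h2 : (Nat.card K : ℂ) * (((Nat.card K + 1) * d' : ℕ) : ℂ) =
        (Nat.card K : ℂ) * (((Pp K e).index * finrank ℂ M : ℕ) : ℂ) := by
      push_cast
      linear_combination hχ₂1
    exact_mod_cast mul_left_cancel₀ hq0 h2
  · have hzP : z ∈ Pp K e := mem_Pp (hzv _)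
    refine hχz ⟨z, hzP⟩ (fun g => iso_ext fun v => ?_) ?_
    · rw [CForm.mul_apply', CForm.mul_apply']
      change (g : (Fin 2 ⊕ Fin 2 → K) ≃ₗ[K] (Fin 2 ⊕ Fin 2 → K)) ((z :
        (Fin 2 ⊕ Fin 2 → K) ≃ₗ[K] (Fin 2 ⊕ Fin 2 → K)) v) = (z :
        (Fin 2 ⊕ Fin 2 → K) ≃ₗ[K] (Fin 2 ⊕ Fin 2 → K)) _
      rw [hzv, hzv, map_smul]
    · rw [MonoidHom.comp_apply]
      refine hτ1 _ fun x => ?_
      rw [← sub_eq_zero]
      refine (CForm.spF K 1).nondeg _ fun y => ?_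
      rw [(CForm.spF K 1).B_sub_left, hρ]
      change (CForm.spF K 2).B ((z : (Fin 2 ⊕ Fin 2 → K) ≃ₗ[K] (Fin 2 ⊕ Fin 2 → K)) (j x)) (j y) - _ = 0
      rw [hzv, (CForm.spF K 2).B_smul_left, h.hjB, (CForm.spF K 1).B_neg_left]
      ring

/-- **`PSp_4(q)`, an odd prime `r ∣ q - 1`: two characters** -/
theorem sp4_two (K : Type u) [Field K] [Finite K] {r : ℕ} (hr : r.Prime) (hr2 : r ≠ 2)
    (hrd : r ∣ Nat.card K - 1) : H596.OneFacts.Two r (PSp 2 K) := by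
  classical
  let _ : Fintype K := Fintype.ofFinite K
  have hq1 : 1 < Nat.card K := Finite.one_lt_card
  obtain ⟨M, _, _, _, τ, hτi, hτ, hτ1, hτr⟩ := exists_cu K hr hr2 hrd
  obtain ⟨χ, χ', d, d', D, hχ, hχ', hd, hd', hdeg, hdeg', hχz⟩ := exists_pair4 K hτi hτ
  have key : ∀ x : ℕ, r ∣ (Nat.card K + 1) * x → r ∣ x := by
    intro x h1
    refine (hr.dvd_mul.1 h1).resolve_left fun h2 => ?_
    have h3 : Nat.card K + 1 = (Nat.card K - 1) + 2 := by omega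
    rw [h3] at h2
    have h4 := (Nat.dvd_add_right hrd).1 h2
    exact hr2 ((Nat.prime_dvd_prime_iff_eq hr Nat.prime_two).1 h4)
  have hrd' : r ∣ d := key d (by rw [hdeg]; exact Dvd.dvd.mul_left (Dvd.dvd.mul_left hτr _) _)
  have hrd'' : r ∣ d' := key d' (by rw [hdeg']; exact Dvd.dvd.mul_left hτr _)
  have hz : ∀ (z : (CForm.spF K 2).iso) (a : Kˣ), a ^ 2 = 1 →
      (∀ v, (z : (Fin 2 ⊕ Fin 2 → K) ≃ₗ[K] (Fin 2 ⊕ Fin 2 → K)) v = (a : K) • v) → χ z = χ 1 ∧ χ' z = χ' 1 := by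
    intro z a ha hv
    have h1 : (a : K) ^ 2 = 1 := by rw [← Units.val_pow_eq_pow_val, ha, Units.val_one]
    rcases mul_self_eq_one_iff.1 (by rw [← sq]; exact h1 : (a : K) * a = 1) with h2 | h2
    · have h3 : z = 1 := iso_ext fun v => by
        rw [hv, h2, one_smul]
        rfl
      rw [h3]
      exact ⟨rfl, rfl⟩
    · exact hχz hτ1 z fun v => by rw [hv, h2]
  have ha : Ch (PSp 2 K) d := sp_down hχ hd fun z a h1 h2 => (hz z a h1 h2).1
  have hb : Ch (PSp 2 K) d' := sp_down hχ' hd' fun z a h1 h2 => (hz z a h1 h2).2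
  refine two_of_ch ha hb hrd' hrd'' ?_
  rintro rfl
  have h1 : d = Nat.card K * d := by
    have h2 : (Nat.card K + 1) * d = (Nat.card K + 1) * (Nat.card K * d) := by
      rw [hdeg]
      nth_rewrite 1 [← hdeg']
      ring
    exact Nat.eq_of_mul_eq_mul_left (by omega) h2
  have h2 := ch_pos ha
  nlinarith

/-- helper749's hypothesis -/
theorem sp4Two : Sp4Two := fun F _ _ _ r hr hr2 hrd => sp4_two F hr hr2 (by rwa [Nat.card_eq_fintype_card])

end Cfsg.Agent.H722.HC
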