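import Cfsg.Agent.H722.HC.PrMinus

/-!
# `Ω⁺_{2m}(q)`: the characteristic `p` is adjacent to every prime divisor of the order (helper722, for S4984)
-/

set_option autoImplicit false

open scoped ComplexConjugate
open Cfsg

namespace Cfsg.Agent.H722.HC

open Cfsg.Agent.Characters Module Cfsg.Agent.H53.HC Cfsg.Agent.H477.HC Cfsg.Agent.H749.Two Cfsg.Agent.H671.H5

universe u v w

section arith

variable {q m r : ℕ}

/-- the product for `k = m - 2`, `n = 2` -/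
def D3 (q m : ℕ) : ℕ := (q ^ m - 1) * (q ^ 2 + 1) * (q ^ (m - 2) + 1) * (q ^ (2 * (m - 1)) - 1) *
  ∏ i ∈ Finset.Ico 2 (m - 3), (q ^ (2 * (i + 1)) - 1)

theorem d3_key (hm : 5 ≤ m) (hq : 2 ≤ q) {p d : ℕ}
    (h : ∃ e, (q ^ (m - 2 + 2) - 1) * (q ^ 2 + 1) * ∏ i ∈ Finset.Ico 2 (m - 2 + 2 - 1), (q ^ (2 * (i + 1)) - 1) ∣
      p ^ e * (d * (q ^ (m - 2) - 1))) : ∃ e, D3 q m ∣ p ^ e * d := by
  obtain ⟨e, he⟩ := h
  refine ⟨e, ?_⟩
  have h1 : (q ^ (m - 2 + 2) - 1) * (q ^ 2 + 1) * ∏ i ∈ Finset.Ico 2 (m - 2 + 2 - 1), (q ^ (2 * (i + 1)) - 1) =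
      D3 q m * (q ^ (m - 2) - 1) := by
    obtain ⟨j, rfl⟩ : ∃ j, m = j + 5 := ⟨m - 5, by omega⟩
    have e1 : j + 5 - 2 + 2 - 1 = j + 2 + 1 + 1 := by omega
    have e2 : j + 5 - 3 = j + 2 := by omega
    have e3 : j + 5 - 2 + 2 = j + 5 := by omega
    have e4 : j + 5 - 2 = j + 3 := by omega
    have e5 : 2 * (j + 5 - 1) = 2 * (j + 2 + 1 + 1) := by omega
    rw [D3, e1, e2, e3, e4, e5, Finset.prod_Ico_succ_top (by omega), Finset.prod_Ico_succ_top (by omega)]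
    have e6 : q ^ (2 * (j + 2 + 1)) - 1 = (q ^ (j + 3) + 1) * (q ^ (j + 3) - 1) := sq_sub q _
    rw [e6]
    ring
  rw [h1, ← mul_assoc] at he
  have h2 : 1 < q ^ (m - 2) := Nat.one_lt_pow (by omega) (by omega)
  exact Nat.dvd_of_mul_dvd_mul_right (by omega) he

theorem d3_split (hm : 5 ≤ m) (hr : r.Prime) (h : r ∣ (q ^ m - 1) * D1 q m) :
    r ∣ D3 q m ∨ (Odd m ∧ r ∣ q ^ (m - 2) - 1 ∧ ¬ r ∣ q ^ 2 - 1) := by
  by_cases h0 : r ∣ D3 q m
  · exact Or.inl h0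
  right
  have hA : ¬ r ∣ q ^ m - 1 := fun h =>
    h0 (Dvd.dvd.mul_right (Dvd.dvd.mul_right (Dvd.dvd.mul_right (Dvd.dvd.mul_right h _) _) _) _)
  have hB : ¬ r ∣ q ^ 2 + 1 := fun h =>
    h0 (Dvd.dvd.mul_right (Dvd.dvd.mul_right (Dvd.dvd.mul_right (Dvd.dvd.mul_left h _) _) _) _)
  have hC : ¬ r ∣ q ^ (m - 2) + 1 := fun h =>
    h0 (Dvd.dvd.mul_right (Dvd.dvd.mul_right (Dvd.dvd.mul_left h _) _) _)
  have hD : ¬ r ∣ q ^ (2 * (m - 1)) - 1 := fun h => h0 (Dvd.dvd.mul_right (Dvd.dvd.mul_left h _) _)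
  have hE : ¬ r ∣ q ^ 2 - 1 := fun h => hD (h.trans (pow_sub_one_dvd q ⟨m - 1, rfl⟩))
  have hF : ¬ r ∣ q ^ 4 - 1 := fun h => by
    have h4 : q ^ (2 * 2) - 1 = (q ^ 2 + 1) * (q ^ 2 - 1) := sq_sub q 2
    rw [show (4 : ℕ) = 2 * 2 by norm_num, h4] at h
    exact (hr.dvd_mul.1 h).elim hB hE
  have hmid : ∀ i, i < m - 3 → r ∣ q ^ (2 * (i + 1)) - 1 → False := by
    intro i hi h2
    rcases Nat.lt_or_ge i 2 with h3 | h3
    · interval_cases i
      · exact hE h2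
      · exact hF h2
    · exact h0 (Dvd.dvd.mul_left (dvd_prod_idx (Finset.mem_Ico.2 ⟨h3, hi⟩) h2) _)
  obtain ⟨i, hi, h2⟩ := exists_idx hr ((hr.dvd_mul.1 h).resolve_left hA)
  rw [Finset.mem_range] at hi
  have h3 : ¬ i < m - 3 := fun h3 => hmid i h3 h2
  have h4 : i + 1 ≠ m - 1 := by
    intro h4
    rw [h4] at h2
    exact hD h2
  have h5 : i + 1 = m - 2 := by omega
  rw [h5, sq_sub] at h2
  have h6 : r ∣ q ^ (m - 2) - 1 := (hr.dvd_mul.1 h2).resolve_left hC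
  refine ⟨?_, h6, hE⟩
  by_contra ho
  rw [Nat.not_odd_iff_even] at ho
  obtain ⟨j, hj⟩ := ho
  refine hmid (j - 2) (by omega) ?_
  have h7 : 2 * (j - 2 + 1) = m - 2 := by omega
  rwa [h7]

theorem two_D3 (hq : Odd q) (_hm : 5 ≤ m) : 2 ^ 4 ∣ D3 q m := by
  have h1 : 2 ∣ q ^ 2 + 1 := (hq.pow (n := 2)).add_one.two_dvd
  have h2 : 2 ^ 3 ∣ q ^ (2 * (m - 1)) - 1 := (two_pow_sq hq).trans (pow_sub_one_dvd q ⟨m - 1, rfl⟩)
  unfold D3
  refine Dvd.dvd.mul_right ?_ _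
  have e : (q ^ m - 1) * (q ^ 2 + 1) * (q ^ (m - 2) + 1) * (q ^ (2 * (m - 1)) - 1) =
      ((q ^ 2 + 1) * (q ^ (2 * (m - 1)) - 1)) * ((q ^ m - 1) * (q ^ (m - 2) + 1)) := by ring
  rw [e, show (2 : ℕ) ^ 4 = 2 * 2 ^ 3 by norm_num]
  exact Dvd.dvd.mul_right (Nat.mul_dvd_mul h1 h2) _

/-- `r` divides `q - 1` if it divides `q^(j+1) - 1` and `q^j - 1` -/
theorem dvd_sub_one {j : ℕ} (hq : 2 ≤ q) (h1 : r ∣ q ^ (j + 1) - 1) (h2 : r ∣ q ^ j - 1) : r ∣ q - 1 := by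
  have h3 : 1 ≤ q ^ j := Nat.one_le_pow _ _ (by omega)
  obtain ⟨t, ht⟩ : ∃ t, q ^ j = t + 1 := ⟨q ^ j - 1, by omega⟩
  have h4 : q ^ (j + 1) - 1 = q * (q ^ j - 1) + (q - 1) := by
    rw [pow_succ, ht, Nat.add_sub_cancel]
    have : (t + 1) * q = q * t + q := by ring
    omega
  rw [h4] at h1
  exact (Nat.dvd_add_right (Dvd.dvd.mul_left h2 q)).1 h1

end arith

section

variable (K : Type u) [Field K] [Finite K]

/-- index and centre of `Ω⁺` -/
theorem plus_idx_mul {m : ℕ} (hm : 4 ≤ m) :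
    (Omega K (quadFormPlus m K)).index * Nat.card (Subgroup.center (Omega K (quadFormPlus m K))) =
      2 * Nat.gcd 4 (Nat.card K ^ m - 1) := by
  let _ := Fintype.ofFinite K
  exact idx_eq (quadFormPlus m K) (g := Nat.gcd 4 (Nat.card K ^ m - 1))
    (X := Nat.card K ^ (m * (m - 1)) * (Nat.card K ^ m - 1) *
      ∏ i ∈ Finset.range (m - 1), (Nat.card K ^ (2 * (i + 1)) - 1)) (by
      rw [Nat.card_eq_fintype_card (α := K)]
      rw [Cfsg.Agent.S0287.result rfl m (by omega)]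
      ring) (by
      rw [Nat.card_eq_fintype_card (α := K)]
      exact Cfsg.Agent.S0293.result rfl m hm)

theorem plus_idx_four {p : ℕ} [Fact p.Prime] [CharP K p] (ho : Odd (Nat.card K)) {m : ℕ} (hm : 2 ≤ m) :
    (Omega K (quadFormPlus m K)).index = 4 := by
  have h2 := two_ne_zero_of_odd (K := K) (p := p) ho
  rw [← LieClassical.OrthForms.coe_plusForm m K]
  refine Cfsg.Agent.ClassicalGeometry.OmegaIndex.index_Omega h2 ?_ _
    (LieClassical.OmegaReindex.nondegenerate_of_left _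
      (fun x hx => LieClassical.OrthForms.nondeg_plusForm m K x hx))
  simp only [Fintype.card_sum, Fintype.card_fin]; omega

/-- the index of `Ω⁺` -/
theorem plus_t {m : ℕ} (hm : 4 ≤ m) : ∃ t, t ≤ 3 ∧ (Omega K (quadFormPlus m K)).index ∣ 2 ^ t ∧
    ((Odd (Nat.card K ^ 2) ∧ 1 < Nat.card K ^ 2) ∨ 2 ^ t < Nat.card K ^ 2) ∧ (Even (Nat.card K) → t ≤ 1) := by
  have hq : 2 ≤ Nat.card K := Finite.one_lt_card
  rcases Nat.even_or_odd (Nat.card K) with he | ho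
  · refine ⟨1, by norm_num, ?_, Or.inr (by nlinarith), fun _ => le_rfl⟩
    have h1 := plus_idx_mul K hm
    have h2 : Nat.gcd 4 (Nat.card K ^ m - 1) = 1 := by
      have h3 : Odd (Nat.card K ^ m - 1) := by
        have h4 : Even (Nat.card K ^ m) := he.pow_of_ne_zero (by omega)
        have h5 : 1 ≤ Nat.card K ^ m := Nat.one_le_pow _ _ (by omega)
        obtain ⟨x, hx⟩ := h4
        exact ⟨x - 1, by omega⟩
      exact Nat.Coprime.pow_left 2 h3.coprime_two_left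
    rw [h2] at h1
    rw [pow_one]
    exact Dvd.intro _ (h1.trans (mul_one 2))
  · exact ⟨3, le_rfl, plus_idx K hm, Or.inl ⟨ho.pow, by nlinarith⟩,
      fun he => absurd ho (Nat.not_odd_iff_even.2 he)⟩

omit [Finite K] in
/-- the Witt index -/
theorem plus_witt (m : ℕ) (W : Submodule K (Fin m ⊕ Fin m → K)) (hW : (CForm.plusF K m).TS W) :
    finrank K W ≤ m := by
  have h1 := two_finrank_le hW
  rw [Module.finrank_fintype_fun_eq_card] at h1
  simp only [Fintype.card_sum, Fintype.card_fin] at h1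
  omega

/-- descent -/
theorem plus_dn {m t : ℕ} (hm : 4 ≤ m) (hidx : (Omega K (quadFormPlus m K)).index ∣ 2 ^ t)
    {χ : (CForm.plusF K m).iso → ℂ} (hχ : IsIrrCharacter _ χ) {d : ℕ} (h1 : χ 1 = d)
    (hz : ∀ (z : (CForm.plusF K m).iso) (c : Kˣ), c ^ 2 = 1 →
      (∀ v, (z : (Fin m ⊕ Fin m → K) ≃ₗ[K] (Fin m ⊕ Fin m → K)) v = (c : K) • v) → χ z = χ 1) :
    ∃ e i, Ch (POmega K (quadFormPlus m K)) e ∧ d = e * 2 ^ i ∧ i ≤ t ∧ 0 < e :=
  om_down (CForm.plusF K m) (plus_hB K m) hχ h1 hz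
    (fun z hz => scal_of (cen_plus K (by omega) z hz)) hidx

omit [Finite K] in
theorem plus_cen {m : ℕ} (hcen : Nat.card (Subgroup.center (Omega K (quadFormPlus m K))) = 1)
    (z : Omega K (quadFormPlus m K)) (hz : z ∈ Subgroup.center (Omega K (quadFormPlus m K))) : omMat z = 1 := by
  rw [Subgroup.eq_bot_of_card_eq _ hcen] at hz
  rw [Subgroup.mem_bot.1 hz]
  rfl

/-- descent, trivial centre -/
theorem plus_dn1 {m t : ℕ} (hcen : Nat.card (Subgroup.center (Omega K (quadFormPlus m K))) = 1)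
    (hidx : (Omega K (quadFormPlus m K)).index ∣ 2 ^ t)
    {χ : (CForm.plusF K m).iso → ℂ} (hχ : IsIrrCharacter _ χ) {d : ℕ} (h1 : χ 1 = d) :
    ∃ e i, Ch (POmega K (quadFormPlus m K)) e ∧ d = e * 2 ^ i ∧ i ≤ t ∧ 0 < e :=
  om_down (CForm.plusF K m) (plus_hB K m) hχ h1 (Z := fun a => a = 1) (fun z c hc hz => by
      congr 1
      apply Subtype.ext
      ext v : 1
      rw [hz, hc, Units.val_one, one_smul]
      rfl) (fun z hz => ⟨1, rfl, fun v => by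
      have h3 : omMat z = 1 := plus_cen K hcen z hz
      rw [show omMat z = 1 from h3]
      rw [Matrix.one_mulVec, Units.val_one, one_smul]⟩) hidx

/-- the second rank 3 character of `O⁺_4(q)` and of `O⁺_6(q)` -/
theorem plus_two : ∃ (ψ θ : (CForm.plusF K 2).iso → ℂ), IsIrrCharacter _ ψ ∧ ψ 1 = ((Nat.card K ^ 2 : ℕ) : ℂ) ∧
    IsCharacter _ θ ∧ (∀ g, ψ g + θ g = (Nat.card {y : (CForm.plusF K 2).Pt // g • y = y} : ℂ)) ∧
    ∀ (z : (CForm.plusF K 2).iso) (c : Kˣ),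
      (∀ v, (z : (Fin 2 ⊕ Fin 2 → K) ≃ₗ[K] (Fin 2 ⊕ Fin 2 → K)) v = (c : K) • v) → ψ z = ψ 1 := by
  obtain ⟨ψ', ψ, -, θ, -, b, -, h1, -, h2, -, h3, -, h4, -, h5, h6⟩ := chars_plus K (m := 2) le_rfl
  refine ⟨ψ, θ, h1, ?_, h4, h5, fun z c hz => (h6 z c hz).2⟩
  have hq : 2 ≤ Nat.card K := Finite.one_lt_card
  have h7 : ((Nat.card K : ℤ) ^ 2 - 1) ≠ 0 := by
    have : (2 : ℤ) ≤ Nat.card K := by exact_mod_cast hq
    nlinarith
  have e1 : (b : ℤ) = ((Nat.card K ^ 2 : ℕ) : ℤ) := by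
    apply mul_left_cancel₀ h7
    push_cast
    rw [h3]
    ring
  have e2 : b = Nat.card K ^ 2 := by exact_mod_cast e1
  rw [h2, e2]

theorem plus_three : ∃ (ψ : (CForm.plusF K 3).iso → ℂ), IsIrrCharacter _ ψ ∧
    ψ 1 = ((Nat.card K ^ 2 * (Nat.card K ^ 2 + 1) : ℕ) : ℂ) ∧
    ∀ (z : (CForm.plusF K 3).iso) (c : Kˣ),
      (∀ v, (z : (Fin 3 ⊕ Fin 3 → K) ≃ₗ[K] (Fin 3 ⊕ Fin 3 → K)) v = (c : K) • v) → ψ z = ψ 1 := by
  obtain ⟨ψ', ψ, -, θ, -, b, -, h1, -, h2, -, h3, -, h4, -, h5, h6⟩ := chars_plus K (m := 3) (by norm_num)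
  refine ⟨ψ, h1, ?_, fun z c hz => (h6 z c hz).2⟩
  have hq : 2 ≤ Nat.card K := Finite.one_lt_card
  have h7 : ((Nat.card K : ℤ) ^ 2 - 1) ≠ 0 := by
    have : (2 : ℤ) ≤ Nat.card K := by exact_mod_cast hq
    nlinarith
  have e1 : (b : ℤ) = ((Nat.card K ^ 2 * (Nat.card K ^ 2 + 1) : ℕ) : ℤ) := by
    apply mul_left_cancel₀ h7
    push_cast
    rw [h3]
    ring
  have e2 : b = Nat.card K ^ 2 * (Nat.card K ^ 2 + 1) := by exact_mod_cast e1
  rw [h2, e2]

variable {p : ℕ} [Fact p.Prime] [CharP K p]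

include p in
/-- `m = 4` -/
theorem pr_plus_four {r : ℕ} (hr : r.Prime) (hrp : r ≠ p) (hd : r ∣ Nat.card (POmega K (quadFormPlus 4 K))) :
    Adj p r (POmega K (quadFormPlus 4 K)) := by
  have hp : p.Prime := Fact.out
  have hq2 : 2 ≤ Nat.card K := Finite.one_lt_card
  have hpq := char_dvd K (p := p)
  obtain ⟨s, hs⟩ := card_pow K p
  have hpr := plus_prod K le_rfl hr hrp hd
  obtain ⟨f, g, hf, hg, hf', hg'⟩ := rk3_plus K (m := 4) le_rfl
  have hpf := p_dvd_sq hpq (hf'.trans (mul_assoc _ _ _))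
  have hpg := p_dvd_sq (X := (Nat.card K : ℤ) * ((Nat.card K : ℤ) ^ (2 * 4 - 2) - 1)) hpq (hg'.trans (by ring))
  have hz : ((Nat.card K : ℤ) ^ 2 - 1) ≠ 0 := by
    have : (2 : ℤ) ≤ Nat.card K := by exact_mod_cast hq2
    nlinarith
  have ef : f = Nat.card K * (Nat.card K ^ 2 + 1) ^ 2 := by
    have e1 : (f : ℤ) = ((Nat.card K * (Nat.card K ^ 2 + 1) ^ 2 : ℕ) : ℤ) := by
      apply mul_left_cancel₀ hz
      push_cast
      rw [hf']
      ring
    exact_mod_cast e1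
  have eg : g = Nat.card K ^ 2 * (Nat.card K ^ 4 + Nat.card K ^ 2 + 1) := by
    have e1 : (g : ℤ) = ((Nat.card K ^ 2 * (Nat.card K ^ 4 + Nat.card K ^ 2 + 1) : ℕ) : ℤ) := by
      apply mul_left_cancel₀ hz
      push_cast
      rw [hg']
      ring
    exact_mod_cast e1
  by_cases hr2 : r = 2
  · subst hr2
    refine adj_of_ch hf hp hr (Ne.symm hrp) hpf ?_
    rw [ef]
    exact Dvd.dvd.mul_left (dvd_pow ((two_cases K hrp rfl).pow (n := 2)).add_one.two_dvd two_ne_zero) _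
  by_cases h1 : r ∣ Nat.card K ^ 2 - 1
  · have h1' : 1 ≤ Nat.card K ^ 2 := Nat.one_le_pow _ _ (by omega)
    by_cases hr3 : r = 3
    · subst hr3
      refine adj_of_ch hg hp hr (Ne.symm hrp) hpg ?_
      rw [eg]
      refine Dvd.dvd.mul_left ?_ _
      obtain ⟨x, hx⟩ := h1
      have h2 : Nat.card K ^ 2 = 3 * x + 1 := by omega
      have h3 : Nat.card K ^ 4 + Nat.card K ^ 2 + 1 = 3 * (3 * x ^ 2 + 3 * x + 1) := by
        have h4 : Nat.card K ^ 4 = (Nat.card K ^ 2) ^ 2 := by ring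
        rw [h4, h2]; ring
      exact ⟨_, h3⟩
    · -- `q ≥ 4`
      have hr5 : 5 ≤ r := by
        have h2 := hr.two_le
        by_contra h3
        have h4 : r = 4 := by omega
        rw [h4] at hr
        exact absurd hr (by norm_num)
      have hq4 : 4 ≤ Nat.card K := by
        by_contra h2
        have h3 : Nat.card K = 2 ∨ Nat.card K = 3 := by omega
        rcases h3 with h3 | h3
        · rw [h3] at h1
          exact hr3 ((Nat.prime_dvd_prime_iff_eq hr Nat.prime_three).1 h1)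
        · rw [h3] at h1
          have h4 : r ∣ 2 ^ 3 := h1
          exact hr2 ((Nat.prime_dvd_prime_iff_eq hr Nat.prime_two).1 (hr.dvd_of_dvd_pow h4))
      obtain ⟨t, ht, hidx, hN, -⟩ := plus_t K (m := 4) le_rfl
      obtain ⟨c, hc⟩ := exists_cus_sq K rfl 2 (by norm_num) (fun h => by omega) (fun h => by omega) (fun _ => le_rfl)
      obtain ⟨W₀, hW₀, hcmp⟩ := plusF_cmp (K := K) 2 2
      obtain ⟨ψ, θ, hψ, hψ1, hθ, hsum, hψz⟩ := plus_two K
      obtain ⟨χ, hχ, hχ1, hχz⟩ := CForm.exists_hc_pt hcmp (by norm_num) hc hW₀ hψ hθ hsum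
      have hχ1' : χ 1 = ((dg (CForm.plusF K (2 + 2)) 2 * Nat.card K ^ 2 : ℕ) : ℂ) := by
        rw [hχ1, hψ1]
        push_cast
        ring
      obtain ⟨e, i, h3, h4, h5, h6⟩ := plus_dn K (m := 4) le_rfl hidx hχ hχ1' (fun z a ha hz =>
        hχz z a hz fun z' hz' => by rw [hc.scal a ha, hψz z' a hz'])
      refine adj_of_ch h3 hp hr (Ne.symm hrp) (p_down hp hs hq2 h4 h5 hN)
        (dvd_down hr h4 h5 (fun h => absurd h hr2) (Dvd.dvd.mul_right ?_ _))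
      obtain ⟨x, hx⟩ := plus_dvd K (p := p) (k := 2) (n := 2) (by norm_num) (by norm_num)
      have h7 : (Nat.card K ^ (2 + 2) - 1) * (Nat.card K ^ 2 + 1) *
          ∏ i ∈ Finset.Ico 2 (2 + 2 - 1), (Nat.card K ^ (2 * (i + 1)) - 1) =
          ((Nat.card K ^ 2 + 1) * (Nat.card K ^ 2 + 1) * (Nat.card K ^ 6 - 1)) * (Nat.card K ^ 2 - 1) := by
        rw [show 2 + 2 - 1 = 2 + 1 by norm_num, Finset.prod_Ico_succ_top le_rfl, Finset.Ico_self, Finset.prod_empty,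
          show 2 + 2 = 2 * 2 by norm_num, sq_sub (Nat.card K) 2]
        ring
      rw [h7, ← mul_assoc] at hx
      have h8 : 1 < Nat.card K ^ 2 := Nat.one_lt_pow (by omega) (by omega)
      have h9 := Nat.dvd_of_mul_dvd_mul_right (by omega) hx
      exact rm_p (p := p) hr hrp (Dvd.dvd.mul_left (h1.trans (pow_sub_one_dvd _ ⟨3, by norm_num⟩)) _) h9
  · have h2 : r ∣ Nat.card K ^ 2 + 1 ∨ r ∣ Nat.card K ^ 6 - 1 := by
      have h4 : Nat.card K ^ (2 * 2) - 1 = (Nat.card K ^ 2 + 1) * (Nat.card K ^ 2 - 1) := sq_sub _ 2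
      have h5 : r ∣ Nat.card K ^ 4 - 1 → r ∣ Nat.card K ^ 2 + 1 := fun h => by
        rw [show (4 : ℕ) = 2 * 2 by norm_num, h4] at h
        exact (hr.dvd_mul.1 h).resolve_right h1
      rcases hr.dvd_mul.1 hpr with h | h
      · exact Or.inl (h5 h)
      · obtain ⟨i, hi, h3⟩ := exists_idx hr h
        rw [Finset.mem_range] at hi
        interval_cases i
        · exact absurd h3 h1
        · exact Or.inl (h5 h3)
        · exact Or.inr h3
    rcases h2 with h2 | h2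
    · refine adj_of_ch hf hp hr (Ne.symm hrp) hpf ?_
      rw [ef]
      exact Dvd.dvd.mul_left (dvd_pow h2 two_ne_zero) _
    · refine adj_of_ch hg hp hr (Ne.symm hrp) hpg ?_
      refine r_dvd_sq hr h1 hq2 (X := (Nat.card K : ℤ) ^ 6 - 1) (Y := (Nat.card K : ℤ) ^ 2) (by rw [hg']; ring) ?_
      rw [← cast_pow_sub _ 6 hq2]
      exact_mod_cast h2

include p in
/-- **(p, r) for `PΩ⁺_{2m}(q)`**, apart from `(Ω⁺_10(2), 7)` -/
theorem pr_plus {m : ℕ} (hm : 4 ≤ m) {r : ℕ} (hr : r.Prime) (hrp : r ≠ p)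
    (hd : r ∣ Nat.card (POmega K (quadFormPlus m K)))
    (hex : m = 5 → Nat.card K = 2 → r ≠ 7) : Adj p r (POmega K (quadFormPlus m K)) := by
  have hp : p.Prime := Fact.out
  have hq2 : 2 ≤ Nat.card K := Finite.one_lt_card
  have hpq := char_dvd K (p := p)
  obtain ⟨s, hs⟩ := card_pow K p
  rcases Nat.lt_or_ge m 5 with hm5 | hm5
  · have hm4 : m = 4 := by omega
    subst hm4
    exact pr_plus_four K hr hrp hd
  obtain ⟨t, ht, hidx, hN, ht1⟩ := plus_t K hm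
  rcases d3_split hm5 hr (plus_prod K hm hr hrp hd) with h1 | ⟨hmo, h1, h2⟩
  · obtain ⟨k, rfl⟩ : ∃ k, m = k + 2 := ⟨m - 2, by omega⟩
    obtain ⟨c, hc⟩ := exists_cus_sq K rfl k (by omega) (fun h => by omega) (fun h => by omega) (fun h => by omega)
    obtain ⟨W₀, hW₀, hcmp⟩ := plusF_cmp (K := K) k 2
    obtain ⟨ψ, θ, hψ, hψ1, hθ, hsum, hψz⟩ := plus_two K
    obtain ⟨χ, hχ, hχ1, hχz⟩ := exists_prod hcmp hc hW₀ (m := k + 2) (plus_witt K _) (by omega) hψ hψ1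
      (fun z a _ hz => hψz z a hz)
    obtain ⟨e, i, h3, h4, h5, h6⟩ := plus_dn K hm hidx hχ hχ1 hχz
    have hk := d3_key hm5 hq2 (p := p) (d := dg (CForm.plusF K (k + 2)) k)
      (plus_dvd K (p := p) (k := k) (n := 2) (by omega) (by norm_num))
    obtain ⟨x, hx⟩ := hk
    exact adj_of_ch h3 hp hr (Ne.symm hrp) (p_down hp hs hq2 h4 h5 hN)
      (dvd_down hr h4 h5 (fun hr2 => Dvd.dvd.mul_right ((pow_dvd_pow 2 (by omega)).trans
        (prime_pow_dvd (t := 4) Nat.prime_two hp (by rw [← hr2]; exact hrp)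
          ((two_D3 (two_cases K hrp hr2) hm5).trans hx))) _) (Dvd.dvd.mul_right (rm_p (p := p) hr hrp h1 hx) _))
  · have hr2 : r ≠ 2 := by
      rintro rfl
      exact h2 (((dvd_pow_self 2 (by norm_num : 3 ≠ 0))).trans (two_pow_sq (two_cases K hrp rfl)))
    rcases Nat.lt_or_ge m 6 with hm6 | hm6
    · -- `m = 5`
      have hm5' : m = 5 := by omega
      subst hm5'
      have hq3 : 3 ≤ Nat.card K := by
        by_contra h3
        have hq : Nat.card K = 2 := by omega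
        rw [hq] at h1
        exact hex rfl hq ((Nat.prime_dvd_prime_iff_eq hr (by norm_num)).1 h1)
      obtain ⟨ψ, ψ', θ, -, a, -, hψ, -, hψ1, -, ha, -, hθ, -, hsum, -, hψz⟩ := chars_plus K (m := 3) (by norm_num)
      obtain ⟨W₀, hW₀, hcmp⟩ := plusF_cmp (K := K) 2 3
      have hra : r ∣ a := by
        refine r_dvd_sq hr h2 hq2 (X := (Nat.card K : ℤ) ^ 3 - 1)
          (Y := (Nat.card K : ℤ) * ((Nat.card K : ℤ) ^ (3 - 2) + 1)) (by rw [ha]; ring) ?_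
        rw [← cast_pow_sub _ 3 hq2]
        exact_mod_cast h1
      have hqa : Nat.card K ∣ a := p_dvd_sq dvd_rfl (ha.trans (mul_assoc _ _ _))
      obtain ⟨e, i, h3, h4, h5⟩ : ∃ e i, Ch (POmega K (quadFormPlus 5 K)) e ∧
          dg (CForm.plusF K (2 + 3)) 2 * a = e * 2 ^ i ∧ i ≤ t := by
        by_cases h3 : Nat.card K = 3
        · have ho : Odd (Nat.card K) := by rw [h3]; decide
          have h4 := plus_idx_mul K (m := 5) (by norm_num)
          rw [plus_idx_four K (p := p) ho (by norm_num), h3] at h4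
          have h5 : Nat.card (Subgroup.center (Omega K (quadFormPlus 5 K))) = 1 := by
            have h6 : Nat.gcd 4 (3 ^ 5 - 1) = 2 := by decide
            omega
          obtain ⟨c, hc⟩ := exists_cus_one (K := K) rfl 2 (by norm_num) (by nlinarith) (by rintro ⟨h3, -⟩; omega)
          obtain ⟨χ, hχ, hχ1, hχz⟩ := CForm.exists_hc_pt hcmp (by norm_num) hc hW₀ hψ hθ hsum
          obtain ⟨e, i, h6, h7, h8, -⟩ := plus_dn1 K (m := 5) h5 hidx hχ
            (d := dg (CForm.plusF K (2 + 3)) 2 * a) (by rw [hχ1, hψ1]; push_cast; ring)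
          exact ⟨e, i, h6, h7, h8⟩
        · obtain ⟨c, hc⟩ := exists_cus_sq K rfl 2 (by norm_num) (fun h => by omega) (fun h => by omega)
            (fun _ => le_rfl)
          obtain ⟨χ, hχ, hχ1, hχz⟩ := CForm.exists_hc_pt hcmp (by norm_num) hc hW₀ hψ hθ hsum
          obtain ⟨e, i, h6, h7, h8, -⟩ := plus_dn K (m := 5) hm hidx hχ
            (d := dg (CForm.plusF K (2 + 3)) 2 * a) (by rw [hχ1, hψ1]; push_cast; ring)
            (fun z a ha hz => hχz z a hz fun z' hz' => by rw [hc.scal a ha, (hψz z' a hz').1])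
          exact ⟨e, i, h6, h7, h8⟩
      refine adj_of_ch h3 hp hr (Ne.symm hrp)
        (dvd_down hp h4 h5 (fun hp2 => ?_) (Dvd.dvd.mul_left (hpq.trans hqa) _))
        (dvd_down hr h4 h5 (fun h => absurd h hr2) (Dvd.dvd.mul_left hra _))
      have he : Even (Nat.card K) := by
        rw [hp2] at hpq
        exact even_iff_two_dvd.2 hpq
      refine (pow_dvd_pow 2 (show t + 1 ≤ 2 by have := ht1 he; omega)).trans ?_
      exact Dvd.dvd.mul_left ((four_dvd K (by omega) hp2).trans hqa) _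
    · -- `m ≥ 7`
      have hm7 : 7 ≤ m := by
        rcases hmo with ⟨j, hj⟩
        omega
      obtain ⟨k, rfl⟩ : ∃ k, m = k + 3 := ⟨m - 3, by omega⟩
      obtain ⟨c, hc⟩ := exists_cus_sq K rfl k (by omega) (fun h => by omega) (fun h => by omega) (fun h => by omega)
      obtain ⟨W₀, hW₀, hcmp⟩ := plusF_cmp (K := K) k 3
      obtain ⟨ψ, hψ, hψ1, hψz⟩ := plus_three K
      obtain ⟨χ, hχ, hχ1, hχz⟩ := exists_prod hcmp hc hW₀ (m := k + 3) (plus_witt K _) (by omega) hψ hψ1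
        (fun z a _ hz => hψz z a hz)
      obtain ⟨e, i, h3, h4, h5, h6⟩ := plus_dn K hm hidx hχ hχ1 hχz
      obtain ⟨x, hx⟩ := plus_dvd K (p := p) (k := k) (n := 3) (by omega) (by norm_num)
      have e1 : k + 3 - 2 = k + 1 := by omega
      rw [e1] at h1
      have h7 : ¬ r ∣ Nat.card K ^ k - 1 := fun h7 => h2 ((dvd_sub_one hq2 h1 h7).trans (by
        have := pow_sub_one_dvd (Nat.card K) (i := 1) (j := 2) ⟨2, by norm_num⟩
        rwa [pow_one] at this))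
      have h8 : r ∣ dg (CForm.plusF K (k + 3)) k * (Nat.card K ^ k - 1) := by
        refine rm_p (p := p) hr hrp ?_ hx
        refine Dvd.dvd.mul_left (dvd_prod_idx (i := k) (Finset.mem_Ico.2 ⟨by omega, by omega⟩) ?_) _
        rw [sq_sub]
        exact Dvd.dvd.mul_left h1 _
      exact adj_of_ch h3 hp hr (Ne.symm hrp) (p_down (D := dg (CForm.plusF K (k + 3)) k * (Nat.card K ^ 2 + 1))
        hp hs hq2 (by rw [← h4]; ring) h5 hN)
        (dvd_down hr h4 h5 (fun h => absurd h hr2) (Dvd.dvd.mul_right ((hr.dvd_mul.1 h8).resolve_right h7) _))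

end

end Cfsg.Agent.H722.HC
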