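import Cfsg.Agent.H722.HC.SpFour
import Cfsg.Agent.H749.TwoSp
import Cfsg.Agent.H477.HC.SpSix
import Cfsg.Agent.H477.HC.Small

/-!
# `PSp_{2m}(q)`: the characteristic `p` is adjacent to every prime divisor of the order (helper722, for S4984)
-/

set_option autoImplicit false

open scoped ComplexConjugate
open Cfsg

namespace Cfsg.Agent.H722.HC

open Cfsg.Agent.Characters Module Cfsg.Agent.H53.HC Cfsg.Agent.H477.HC Cfsg.Agent.H749.Two Cfsg.Agent.H671.H5

universe u v w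

/-- `p` divides the rank 3 degrees -/
theorem p_dvd_rk {p q : ℕ} (hp : p.Prime) (hpq : p ∣ q) (h4 : p = 2 → 4 ∣ q) {f : ℕ} {X : ℤ}
    (h : 2 * ((q : ℤ) - 1) * f = q * X) : p ∣ f := by
  by_cases h2 : p = 2
  · obtain ⟨t, rfl⟩ := h4 h2
    subst h2
    push_cast at h
    have h5 : (f : ℤ) = 2 * (t * (2 * f - X)) := by linarith
    have h6 : ((2 : ℕ) : ℤ) ∣ (f : ℤ) := ⟨_, by push_cast; exact h5⟩
    exact_mod_cast h6
  · obtain ⟨t, rfl⟩ := hpq
    push_cast at h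
    have h5 : (2 : ℤ) * f = p * (t * (2 * f - X)) := by linarith
    have h6 : (p : ℤ) ∣ ((2 * f : ℕ) : ℤ) := ⟨_, by push_cast; exact h5⟩
    have h7 : p ∣ 2 * f := by exact_mod_cast h6
    exact (hp.dvd_mul.1 h7).resolve_left fun h8 => h2 ((Nat.prime_dvd_prime_iff_eq hp Nat.prime_two).1 h8)

theorem r_dvd_rk {r q : ℕ} (hr : r.Prime) (hr2 : ¬ r ∣ 2 * (q - 1)) (hq : 1 ≤ q) {f : ℕ} {X Y : ℤ}
    (h : 2 * ((q : ℤ) - 1) * f = X * Y) (hX : (r : ℤ) ∣ X) : r ∣ f := by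
  have h1 : (r : ℤ) ∣ ((2 * (q - 1) * f : ℕ) : ℤ) := by
    push_cast [Nat.cast_sub hq]
    rw [h]
    exact Dvd.dvd.mul_right hX _
  exact (hr.dvd_mul.1 (by exact_mod_cast h1)).resolve_left hr2

theorem four_dvd (K : Type u) [Field K] [Finite K] {p : ℕ} [Fact p.Prime] [CharP K p] (h : Nat.card K ≠ 2) :
    p = 2 → 4 ∣ Nat.card K := by
  rintro rfl
  obtain ⟨s, hs⟩ := card_pow K 2
  have h1 : 1 < Nat.card K := Finite.one_lt_card
  rw [hs] at h h1 ⊢
  have h2 : 2 ≤ s := by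
    by_contra h3
    have h4 : s = 0 ∨ s = 1 := by omega
    rcases h4 with rfl | rfl
    · norm_num at h1
    · norm_num at h
  exact pow_dvd_pow 2 h2

/-- `m = 2` -/
theorem pr_sp_two (K : Type u) [Field K] [Finite K] {p : ℕ} [Fact p.Prime] [CharP K p]
    (h2 : Nat.card K ≠ 2) {r : ℕ} (hr : r.Prime) (hrp : r ≠ p) (hd : r ∣ Nat.card (PSp 2 K)) :
    Adj p r (PSp 2 K) := by
  have hp : p.Prime := Fact.out
  have hq : 2 ≤ Nat.card K := Finite.one_lt_card
  have hpq := char_dvd K (p := p)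
  let _ : Fintype K := Fintype.ofFinite K
  obtain ⟨χ₁, χ₂, f, g, i1, i2, i3, i4, i5, i6⟩ := H677.SpRank.exists_chars (F := K) (m := 2) le_rfl
  have hpf : p ∣ f := p_dvd_rk hp hpq (four_dvd K h2) (i5.trans (mul_assoc _ _ _))
  have hpg : p ∣ g := p_dvd_rk hp hpq (four_dvd K h2) (i6.trans (mul_assoc _ _ _))
  have hq1 : ((Nat.card K : ℤ) - 1) ≠ 0 := by
    have : (2 : ℤ) ≤ Nat.card K := by exact_mod_cast hq
    omega
  have e5 : (2 : ℤ) * f = Nat.card K * (Nat.card K + 1) ^ 2 := by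
    apply mul_left_cancel₀ hq1
    linear_combination i5
  have e6 : (2 : ℤ) * g = Nat.card K * ((Nat.card K : ℤ) ^ 2 + 1) := by
    apply mul_left_cancel₀ hq1
    linear_combination i6
  have hf : ∀ r : ℕ, r.Prime → r ∣ Nat.card K + 1 → r ∣ f := by
    intro r hr h
    by_cases hr2 : r = 2
    · subst hr2
      obtain ⟨t, ht⟩ := h
      have h1 : ((Nat.card K : ℤ) + 1) = 2 * t := by exact_mod_cast ht
      rw [h1] at e5
      have h3 : (f : ℤ) = 2 * (Nat.card K * t ^ 2) := by linarith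
      have h4 : ((2 : ℕ) : ℤ) ∣ (f : ℤ) := ⟨_, by push_cast; exact h3⟩
      exact_mod_cast h4
    · have h1 : (r : ℤ) ∣ ((2 * f : ℕ) : ℤ) := by
        push_cast
        rw [e5]
        refine Dvd.dvd.mul_left (dvd_pow ?_ two_ne_zero) _
        exact_mod_cast h
      exact (hr.dvd_mul.1 (by exact_mod_cast h1)).resolve_left fun h8 =>
        hr2 ((Nat.prime_dvd_prime_iff_eq hr Nat.prime_two).1 h8)
  have hg : ∀ r : ℕ, r.Prime → r ≠ 2 → r ∣ Nat.card K ^ 2 + 1 → r ∣ g := by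
    intro r hr hr2 h
    have h1 : (r : ℤ) ∣ ((2 * g : ℕ) : ℤ) := by
      push_cast
      rw [e6]
      refine Dvd.dvd.mul_left ?_ _
      exact_mod_cast h
    exact (hr.dvd_mul.1 (by exact_mod_cast h1)).resolve_left fun h8 =>
        hr2 ((Nat.prime_dvd_prime_iff_eq hr Nat.prime_two).1 h8)
  have key : ∀ r : ℕ, r.Prime → r ≠ p → r ∣ Nat.card K + 1 → Adj p r (PSp 2 K) := fun r hr hrp h =>
    adj_of_ch ⟨χ₁, i1, i3⟩ hp hr (Ne.symm hrp) hpf (hf r hr h)
  by_cases hr2 : r = 2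
  · subst hr2
    refine key 2 hr hrp ?_
    obtain ⟨s, hs⟩ := card_pow K p
    have h1 : Odd (Nat.card K) := by
      rw [hs]
      exact (hp.odd_of_ne_two (Ne.symm hrp)).pow
    rcases h1 with ⟨t, ht⟩
    exact ⟨t + 1, by omega⟩
  · obtain ⟨i, hi, h3⟩ := exists_idx hr (sp_prod K (p := p) hr hrp hd)
    rw [Finset.mem_range] at hi
    have h4 : r ∣ Nat.card K ^ 2 - 1 ∨ r ∣ Nat.card K ^ 2 + 1 := by
      have h5 : i = 0 ∨ i = 1 := by omega
      rcases h5 with rfl | rfl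
      · exact Or.inl h3
      · have h6 := sq_sub (Nat.card K) 2
        have h7 : Nat.card K ^ (2 * (1 + 1)) - 1 = (Nat.card K ^ 2 + 1) * (Nat.card K ^ 2 - 1) := h6
        rw [h7] at h3
        exact (hr.dvd_mul.1 h3).symm
    rcases h4 with h4 | h4
    · have h6 := sq_sub (Nat.card K) 1
      rw [mul_one, pow_one] at h6
      rw [h6] at h4
      rcases hr.dvd_mul.1 h4 with h5 | h5
      · exact key r hr hrp h5
      · exact sp4_pr K hr hr2 h5
    · exact adj_of_ch ⟨χ₂, i2, i4⟩ hp hr (Ne.symm hrp) hpg (hg r hr hr2 h4)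

/-- `q = 2`, `m ≥ 5`, `r ∣ 2^(m-1) - 1` -/
theorem pr_sp_even (K : Type u) [Field K] [Finite K] {p : ℕ} [Fact p.Prime] [CharP K p] {m : ℕ} (hm : 5 ≤ m)
    (h2 : Nat.card K = 2) {r : ℕ} (hr : r.Prime) (hrp : r ≠ p) (hd : r ∣ Nat.card K ^ (m - 1) - 1) :
    Adj p r (PSp m K) := by
  have hp : p.Prime := Fact.out
  have hpq := char_dvd K (p := p)
  have hp2 : p = 2 := by
    rw [h2] at hpq
    exact (Nat.prime_dvd_prime_iff_eq hp Nat.prime_two).1 hpq
  obtain ⟨k, rfl⟩ : ∃ k, m = k + 2 := ⟨m - 2, by omega⟩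
  obtain ⟨c, hc⟩ := exists_cus_sq K rfl k (by omega) (fun _ => by omega) (fun h => by omega) (fun h => by omega)
  obtain ⟨W₀, hW₀, hcmp⟩ := spF_cmp (K := K) k 2
  obtain ⟨ψ, d, hψ, hψ1, hψ2⟩ := exists_even K h2
  have hunit : ∀ a : Kˣ, a = 1 := by
    have h3 : Nat.card Kˣ = 1 := by rw [Nat.card_units, h2]
    have : Subsingleton Kˣ := (Nat.card_eq_one_iff_unique.1 h3).1
    intro a
    exact Subsingleton.elim _ _
  obtain ⟨χ, hχ, hχ1, hχz⟩ := exists_prod hcmp hc hW₀ (m := k + 2) (fun W hW => by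
    have h1 := two_finrank_le hW
    rw [Module.finrank_fintype_fun_eq_card] at h1
    simp only [Fintype.card_sum, Fintype.card_fin] at h1
    omega) (by omega) hψ hψ1 (fun z a _ hz => by
      have h3 : z = 1 := iso_ext fun v => by
        rw [hz, hunit a, Units.val_one, one_smul]
        rfl
      rw [h3])
  have hch : Ch (PSp (k + 2) K) (dg (CForm.spF K (k + 2)) k * d) := sp_down hχ hχ1 hχz
  obtain ⟨e, he⟩ := psp_dvd K (p := p) (k := k) (n := 2) (by omega)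
  have hk1 : k + 2 - 1 = k + 1 := by omega
  rw [hk1] at hd
  have h3 : r ∣ dg (CForm.spF K (k + 2)) k * (Nat.card K ^ k - 1) := by
    refine rm_p (p := p) hr hrp ?_ he
    refine Dvd.dvd.trans ?_ (Finset.dvd_prod_of_mem _ (Finset.mem_Ico.2 ⟨(by omega : 2 ≤ k), by omega⟩))
    rw [sq_sub]
    exact Dvd.dvd.mul_left hd _
  have h4 : ¬ r ∣ Nat.card K ^ k - 1 := by
    intro h5
    rw [h2] at h5 hd
    have h6 : 1 ≤ 2 ^ k := Nat.one_le_pow _ _ (by norm_num)
    have h7 : 2 ^ (k + 1) - 1 = 2 * (2 ^ k - 1) + 1 := by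
      rw [pow_succ]
      omega
    rw [h7] at hd
    have h8 := (Nat.dvd_add_right (Dvd.dvd.mul_left h5 2)).1 hd
    exact hr.one_lt.ne' (Nat.dvd_one.1 h8)
  exact adj_of_ch hch hp hr (Ne.symm hrp) (Dvd.dvd.mul_left (by rw [hp2]; exact hψ2) _)
    (Dvd.dvd.mul_right ((hr.dvd_mul.1 h3).resolve_right h4) _)

/-- **(p, r) for `PSp_{2m}(q)`**, apart from `PSp_4(2)` and `(PSp_8(2), 7)` -/
theorem pr_sp (K : Type u) [Field K] [Finite K] {p : ℕ} [Fact p.Prime] [CharP K p] {m : ℕ} (hm : 2 ≤ m)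
    (h22 : ¬ (m = 2 ∧ Nat.card K = 2)) {r : ℕ} (hr : r.Prime) (hrp : r ≠ p) (hd : r ∣ Nat.card (PSp m K))
    (h82 : m = 4 → Nat.card K = 2 → r ≠ 7) : Adj p r (PSp m K) := by
  have hp : p.Prime := Fact.out
  have hq : 2 ≤ Nat.card K := Finite.one_lt_card
  have hpq := char_dvd K (p := p)
  by_cases hm2 : m = 2
  · subst hm2
    exact pr_sp_two K (fun h => h22 ⟨rfl, h⟩) hr hrp hd
  have hm3 : 3 ≤ m := by omega
  have hprod := sp_prod K (p := p) hr hrp hd
  let _ : Fintype K := Fintype.ofFinite K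
  by_cases h3 : m = 3 ∧ Nat.card K = 2
  · obtain ⟨rfl, h3⟩ := h3
    have hp2 : p = 2 := by
      rw [h3] at hpq
      exact (Nat.prime_dvd_prime_iff_eq hp Nat.prime_two).1 hpq
    obtain ⟨d, h4, h5⟩ := tsp62 (ZMod 2) (ZMod.card 2)
    have e0 : K ≃+* ZMod 2 := FiniteField.ringEquivOfCardEq (by
      rw [← Nat.card_eq_fintype_card, h3, ZMod.card 2])
    have h6 : Ch (PSp 3 K) d := h5.congr (Cfsg.Agent.LieClassical.FieldTransfer.pspCongr 3 e0)
    refine adj_of_ch h6 hp hr (Ne.symm hrp) (by rw [hp2]; exact Dvd.dvd.trans (by norm_num) h4) ?_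
    rw [h3, Finset.prod_range_succ, Finset.prod_range_succ, Finset.prod_range_one] at hprod
    have h7 : r ∣ 3 ^ 4 * (5 * 7) := by norm_num at hprod ⊢; exact hprod
    rcases hr.dvd_mul.1 h7 with h8 | h8
    · have h9 := (Nat.prime_dvd_prime_iff_eq hr Nat.prime_three).1 (hr.dvd_of_dvd_pow h8)
      rw [h9]
      exact Dvd.dvd.trans (by norm_num) h4
    · exact (h8.trans (by norm_num)).trans h4
  by_cases h3' : m = 3 ∧ Nat.card K = 3
  · obtain ⟨rfl, h3'⟩ := h3'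
    have hp2 : p = 3 := by
      rw [h3'] at hpq
      exact (Nat.prime_dvd_prime_iff_eq hp Nat.prime_three).1 hpq
    obtain ⟨χ₁, χ₂, f, g, i1, i2, i3, i4, i5, i6⟩ := H677.SpRank.exists_chars (F := K) (m := 3) (by norm_num)
    rw [h3'] at i5 i6
    norm_num at i5 i6
    have e1 : f = 195 := by omega
    have e2 : g = 168 := by omega
    rw [h3', Finset.prod_range_succ, Finset.prod_range_succ, Finset.prod_range_one] at hprod
    have h7 : r ∣ 2 ^ 10 * (5 * (7 * 13)) := by norm_num at hprod ⊢; exact hprod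
    have hg : ∀ r : ℕ, r.Prime → r ≠ p → r ∣ 168 → Adj p r (PSp 3 K) := fun r hr hrp h =>
      adj_of_ch ⟨χ₂, i2, by rw [i4, e2]⟩ hp hr (Ne.symm hrp) (by rw [hp2]; norm_num) h
    have hf : ∀ r : ℕ, r.Prime → r ≠ p → r ∣ 195 → Adj p r (PSp 3 K) := fun r hr hrp h =>
      adj_of_ch ⟨χ₁, i1, by rw [i3, e1]⟩ hp hr (Ne.symm hrp) (by rw [hp2]; norm_num) h
    rcases hr.dvd_mul.1 h7 with h8 | h8
    · have h9 := (Nat.prime_dvd_prime_iff_eq hr Nat.prime_two).1 (hr.dvd_of_dvd_pow h8)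
      exact hg r hr hrp (by rw [h9]; norm_num)
    · rcases hr.dvd_mul.1 h8 with h9 | h9
      · exact hf r hr hrp (h9.trans (by norm_num))
      · rcases hr.dvd_mul.1 h9 with h10 | h10
        · exact hg r hr hrp (h10.trans (by norm_num))
        · exact hf r hr hrp (h10.trans (by norm_num))
  rcases bc_split hm3 hq hr hprod with h4 | ⟨h4, -, h6, h7⟩
  · have hb := (sp_pair K hm3 (fun h => by
        by_contra h5
        exact h3 ⟨by omega, h⟩) (fun h => by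
        by_contra h5
        exact h3' ⟨by omega, h⟩)).2
    obtain ⟨e, he⟩ := bc_key hm3 hq (psp_dvd K (p := p) (k := m - 1) (n := 1) (by omega))
    exact adj_of_ch hb hp hr (Ne.symm hrp) (Dvd.dvd.mul_left hpq _)
      (Dvd.dvd.mul_right (rm_p (p := p) hr hrp h4 he) _)
  · by_cases h8 : Nat.card K = 2
    · have hm5 : 5 ≤ m := by
        by_contra h9
        have h10 : m = 4 := by omega
        subst h10
        rw [h8] at h6
        have h11 : r ∣ 7 := by norm_num at h6; exact h6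
        exact h82 rfl h8 ((Nat.prime_dvd_prime_iff_eq hr (by norm_num)).1 h11)
      exact pr_sp_even K hm5 h8 hr hrp h6
    · obtain ⟨χ₁, χ₂, f, g, i1, i2, i3, i4, i5, i6⟩ := H677.SpRank.exists_chars (F := K) (m := m) hm
      refine adj_of_ch ⟨χ₂, i2, i4⟩ hp hr (Ne.symm hrp)
        (p_dvd_rk hp hpq (four_dvd K h8) (i6.trans (mul_assoc _ _ _))) ?_
      have h9 : ((Nat.card K ^ (m - 1) - 1 : ℕ) : ℤ) = (Nat.card K : ℤ) ^ (m - 1) - 1 := by
        rw [Nat.cast_sub (Nat.one_le_pow _ _ (by omega))]; push_cast; ring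
      refine r_dvd_rk hr h7 (by omega) (X := (Nat.card K : ℤ) ^ (m - 1) - 1)
        (Y := (Nat.card K : ℤ) * ((Nat.card K : ℤ) ^ m + 1)) (by rw [i6]; ring) ?_
      rw [← h9]
      exact_mod_cast h6

end Cfsg.Agent.H722.HC
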