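import Cfsg.Agent.H722.HC.IsoCh
import Cfsg.Agent.H722.HC.PrSp
import Cfsg.Agent.H749.TwoMinus

/-!
# `Ω⁻_{2l+2}(q)`: the characteristic `p` is adjacent to every prime divisor of the order (helper722, for S4984)
-/

set_option autoImplicit false

open scoped ComplexConjugate
open Cfsg

namespace Cfsg.Agent.H722.HC

open Cfsg.Agent.Characters Module Cfsg.Agent.H53.HC Cfsg.Agent.H477.HC Cfsg.Agent.H749.Two Cfsg.Agent.H671.H5

universe u v w

/-- `p` divides the rank 3 degrees -/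
theorem p_dvd_sq {p q : ℕ} (hpq : p ∣ q) {f : ℕ} {X : ℤ} (h : ((q : ℤ) ^ 2 - 1) * f = q * X) : p ∣ f := by
  have h1 : (f : ℤ) = q * (q * f - X) := by linear_combination -h
  have h2 : (q : ℤ) ∣ (f : ℤ) := ⟨_, h1⟩
  exact hpq.trans (by exact_mod_cast h2)

theorem r_dvd_sq {r q : ℕ} (hr : r.Prime) (hr2 : ¬ r ∣ q ^ 2 - 1) (hq : 2 ≤ q) {f : ℕ} {X Y : ℤ}
    (h : ((q : ℤ) ^ 2 - 1) * f = X * Y) (hX : (r : ℤ) ∣ X) : r ∣ f := by
  have h1 : (r : ℤ) ∣ (((q ^ 2 - 1) * f : ℕ) : ℤ) := by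
    rw [Nat.cast_mul, cast_pow_sub q 2 hq, h]
    exact Dvd.dvd.mul_right hX _
  exact (hr.dvd_mul.1 (by exact_mod_cast h1)).resolve_left hr2

/-- `p` divides the degree after the descent -/
theorem p_down {p q D e i t s : ℕ} (hp : p.Prime) (hs : q = p ^ s) (hq : 2 ≤ q) (h : D * q ^ 2 = e * 2 ^ i) (hi : i ≤ t)
    (ht : (Odd (q ^ 2) ∧ 1 < q ^ 2) ∨ 2 ^ t < q ^ 2) : p ∣ e := by
  have hs0 : 0 < s := by
    rcases Nat.eq_zero_or_pos s with rfl | h0
    · rw [pow_zero] at hs; omega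
    · exact h0
  by_cases hp2 : p = 2
  · subst hp2
    have h1 : 2 ^ t < q ^ 2 := by
      rcases ht with ⟨h1, -⟩ | h1
      · exfalso
        have h2 : Even (q ^ 2) := by
          rw [hs]
          exact ((even_two.pow_of_ne_zero hs0.ne')).pow_of_ne_zero two_ne_zero
        exact (Nat.not_odd_iff_even.2 h2) h1
      · exact h1
    rw [hs, ← pow_mul] at h1 h
    have h2 := (Nat.pow_lt_pow_iff_right (show 1 < 2 by norm_num)).1 h1
    refine dvd_down Nat.prime_two h hi (fun _ => ?_) ?_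
    · exact Dvd.dvd.mul_left (pow_dvd_pow 2 (by omega)) _
    · exact Dvd.dvd.mul_left (dvd_pow_self 2 (by omega)) _
  · refine dvd_down hp h hi (fun h => absurd h hp2) (Dvd.dvd.mul_left ?_ _)
    rw [hs]
    exact dvd_pow (dvd_pow_self p hs0.ne') two_ne_zero

section

variable (K : Type u) [Field K] [Finite K] {p : ℕ} [Fact p.Prime] [CharP K p] (a b : K)
  (hab : ∀ z₁ z₂ : K, z₁ ^ 2 + a * z₁ * z₂ + b * z₂ ^ 2 = 0 → z₁ = 0 ∧ z₂ = 0)

include p hab in
/-- the character of degree `dg F 1 * q²(q²+1)` of `PΩ⁻_8(q)`, `q ≥ 4` -/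
theorem minus_pt (hq4 : 4 ≤ Nat.card K) : ∃ t e i, ((Odd (Nat.card K ^ 2) ∧ 1 < Nat.card K ^ 2) ∨ 2 ^ t < Nat.card K ^ 2) ∧
    Ch (POmega K (quadFormMinus 3 K a b)) e ∧
    dg (CForm.minusF K (1 + 2) a b hab) 1 * (Nat.card K ^ 2 * (Nat.card K ^ 2 + 1)) = e * 2 ^ i ∧ i ≤ t := by
  obtain ⟨t, ht, hidx, hN⟩ := minus_t K a b hab (l := 3) le_rfl
  obtain ⟨W₀, hW₀, hcmp⟩ := minusF_cmp (K := K) hab 1 2
  obtain ⟨c, hc⟩ := exists_cus_one (K := K) rfl 1 (by norm_num) (by rw [pow_one]; omega) (by rintro ⟨h3, -⟩; omega)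
  obtain ⟨ψ, -, θ, -, s, -, hψ, -, hψ1, -, hs, -, hθ, -, hsum, -, -⟩ := chars_minus K a b hab (l := 2) le_rfl
  obtain ⟨χ, hχ, hχ1, -⟩ := CForm.exists_hc_pt hcmp one_pos hc hW₀ hψ hθ hsum
  have e1 : s = Nat.card K ^ 2 * (Nat.card K ^ 2 + 1) := by
    have h1 : ((Nat.card K : ℤ) ^ 2 - 1) ≠ 0 := by
      have : (4 : ℤ) ≤ Nat.card K := by exact_mod_cast hq4
      nlinarith
    have h2 : (s : ℤ) = ((Nat.card K ^ 2 * (Nat.card K ^ 2 + 1) : ℕ) : ℤ) := by
      apply mul_left_cancel₀ h1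
      push_cast
      rw [hs]
      ring
    exact_mod_cast h2
  have hχ1' : χ 1 = ((dg (CForm.minusF K (1 + 2) a b hab) 1 * (Nat.card K ^ 2 * (Nat.card K ^ 2 + 1)) : ℕ) : ℂ) := by
    rw [hχ1, hψ1, e1]
    push_cast
    ring
  obtain ⟨e, i, h3, h4, h5, h6⟩ := minus_down3 K (p := p) a b hab hidx hχ hχ1'
  exact ⟨t, e, i, hN, h3, h4, h5⟩

include p hab in
/-- **(p, r) for `PΩ⁻_{2l+2}(q)`**, apart from `(Ω⁻_8(2), 5)`, `(Ω⁻_8(3), 5)` -/
theorem pr_minus {l : ℕ} (hl : 3 ≤ l) {r : ℕ} (hr : r.Prime) (hrp : r ≠ p)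
    (hd : r ∣ Nat.card (POmega K (quadFormMinus l K a b)))
    (hex : l = 3 → Nat.card K ≤ 3 → r ≠ 5) : Adj p r (POmega K (quadFormMinus l K a b)) := by
  have hp : p.Prime := Fact.out
  have hq2 : 2 ≤ Nat.card K := Finite.one_lt_card
  have hpq := char_dvd K (p := p)
  obtain ⟨s, hs⟩ := card_pow K p
  have hMG := minus_prod K a b hab hr hrp hd
  -- the pair
  have hpair : ∀ (hl2 : Nat.card K = 2 → 4 ≤ l) (M : ℕ)
      (_ : ∃ x, M ∣ p ^ x * dg (CForm.minusF K (l - 1 + 1) a b hab) (l - 1)) (_ : Odd (Nat.card K) → 2 ^ 4 ∣ M),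
      r ∣ M → Adj p r (POmega K (quadFormMinus l K a b)) := by
    intro hl2 M hM hM2 hrM
    obtain ⟨x', hx'⟩ := hM
    obtain ⟨t', e', i', e'', i'', h5, h6, h7, h8, h9, h10, h11, h12, h13⟩ := minus_pair K (p := p) a b hab hl hl2
    have h14 := rm_p (p := p) hr hrp hrM hx'
    have h15 : r = 2 → 2 ^ (t' + 1) ∣ dg (CForm.minusF K (l - 1 + 1) a b hab) (l - 1) := fun hr2 =>
      (pow_dvd_pow 2 (by omega)).trans (prime_pow_dvd (t := 4) Nat.prime_two hp (by rw [← hr2]; exact hrp)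
        ((hM2 (two_cases K hrp hr2)).trans hx'))
    exact adj_of_ch h8 hp hr (Ne.symm hrp) (p_down hp hs hq2 h10 h12 h6)
      (dvd_down hr h10 h12 (fun h => Dvd.dvd.mul_right (h15 h) _) (Dvd.dvd.mul_right h14 _))
  rcases Nat.lt_or_ge l 4 with hl4 | hl4
  · have hl3 : l = 3 := by omega
    subst hl3
    rcases Nat.lt_or_ge (Nat.card K) 3 with hq3 | hq3
    · -- `Ω⁻_8(2)`
      have hq : Nat.card K = 2 := by omega
      obtain ⟨f, g, hf, hg, hf', hg'⟩ := rk3_minus K a b hab (l := 3) le_rfl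
      have hp2 : p = 2 := by
        rw [hq] at hpq
        exact (Nat.prime_dvd_prime_iff_eq hp Nat.prime_two).1 hpq
      rw [hq] at hf' hg' hMG
      norm_num at hf' hg'
      have e1 : f = 84 := by omega
      have e2 : g = 34 := by omega
      have hMG' : MG 2 3 = 3 ^ 4 * 5 * 7 * 17 := by rfl
      rw [hMG'] at hMG
      have h6 : r ∣ 3 ^ 4 ∨ r ∣ 7 ∨ r ∣ 17 := by
        rcases hr.dvd_mul.1 hMG with h8 | h8
        · rcases hr.dvd_mul.1 h8 with h9 | h9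
          · rcases hr.dvd_mul.1 h9 with h10 | h10
            · exact Or.inl h10
            · exact absurd ((Nat.prime_dvd_prime_iff_eq hr (by norm_num)).1 h10) (hex rfl (by omega))
          · exact Or.inr (Or.inl h9)
        · exact Or.inr (Or.inr h8)
      rcases h6 with h6 | h6 | h6
      · have hr3 : r = 3 := (Nat.prime_dvd_prime_iff_eq hr Nat.prime_three).1 (hr.dvd_of_dvd_pow h6)
        exact adj_of_ch hf hp hr (Ne.symm hrp) (by rw [hp2, e1]; norm_num) (by rw [hr3, e1]; norm_num)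
      · exact adj_of_ch hf hp hr (Ne.symm hrp) (by rw [hp2, e1]; norm_num) (h6.trans (by rw [e1]; norm_num))
      · exact adj_of_ch hg hp hr (Ne.symm hrp) (by rw [hp2, e2]; norm_num) (h6.trans (by rw [e2]; norm_num))
    by_cases h4 : r ∣ (Nat.card K ^ 4 + 1) * (Nat.card K ^ 6 - 1)
    · exact hpair (fun h => by omega) _
        (td_key_three hq2 (minus_dvd K (p := p) a b hab (k := 2) (n := 1) (by omega))) (fun ho => two_M3 ho) h4
    · have h5 : r ∣ Nat.card K ^ 2 + 1 := (td_three hr hMG).resolve_left h4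
      have hr2 : r ≠ 2 := by
        intro hr2
        have ho := two_cases K hrp hr2
        exact h4 (Dvd.dvd.mul_right (by rw [hr2]; exact (ho.pow (n := 4)).add_one.two_dvd) _)
      have hq4 : 4 ≤ Nat.card K := by
        by_contra h6
        have hq : Nat.card K = 3 := by omega
        rw [hq] at h5
        have h6 : r ∣ 2 * 5 := by norm_num at h5; exact h5
        rcases hr.dvd_mul.1 h6 with h7 | h7
        · exact hr2 ((Nat.prime_dvd_prime_iff_eq hr Nat.prime_two).1 h7)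
        · exact hex rfl (by omega) ((Nat.prime_dvd_prime_iff_eq hr (by norm_num)).1 h7)
      obtain ⟨t', e', i', h6, h7, h8, h9⟩ := minus_pt K (p := p) a b hab hq4
      refine adj_of_ch h7 hp hr (Ne.symm hrp) (p_down (D := dg (CForm.minusF K (1 + 2) a b hab) 1 *
        (Nat.card K ^ 2 + 1)) hp hs hq2 (by rw [← h8]; ring) h9 h6)
        (dvd_down hr h8 h9 (fun h => absurd h hr2) (Dvd.dvd.mul_left (Dvd.dvd.mul_left h5 _) _))
  · rcases td_split hl4 hr hMG with h4 | ⟨-, h5, h6⟩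
    · exact hpair (fun _ => hl4) _
        (td_key' hl4 hq2 (minus_dvd K (p := p) a b hab (k := l - 1) (n := 1) (by omega))) (fun ho => two_M2 ho) h4
    · obtain ⟨f, g, -, hg, -, hg'⟩ := rk3_minus K a b hab hl
      refine adj_of_ch hg hp hr (Ne.symm hrp) (p_dvd_sq hpq (hg'.trans (mul_assoc _ _ _))) ?_
      refine r_dvd_sq hr h6 hq2 (X := (Nat.card K : ℤ) ^ (l - 1) - 1)
        (Y := (Nat.card K : ℤ) * ((Nat.card K : ℤ) ^ (l + 1) + 1)) (by rw [hg']; ring) ?_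
      rw [← cast_pow_sub _ (l - 1) hq2]
      exact_mod_cast h5

end

end Cfsg.Agent.H722.HC
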