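import Cfsg.Agent.H722.HC.PrSp
import Cfsg.Agent.H749.TwoOdd

/-!
# `Ω_{2m+1}(q)`: the characteristic `p` is adjacent to every prime divisor of the order (helper722, for S4984)
-/

set_option autoImplicit false

open scoped ComplexConjugate
open Cfsg

namespace Cfsg.Agent.H722.HC

open Cfsg.Agent.Characters Module Cfsg.Agent.H53.HC Cfsg.Agent.H477.HC Cfsg.Agent.H749.Two Cfsg.Agent.H671.H5

universe u v w

/-- **(p, r) for `Ω_{2m+1}(q)`** -/
theorem pr_odd (K : Type u) [Field K] [Finite K] {p : ℕ} [Fact p.Prime] [CharP K p] {m : ℕ}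
    (ho : Odd (Nat.card K)) (hm : 3 ≤ m) {r : ℕ} (hr : r.Prime) (hrp : r ≠ p)
    (hd : r ∣ Nat.card (POmega K (quadFormOdd m K))) : Adj p r (POmega K (quadFormOdd m K)) := by
  have hp : p.Prime := Fact.out
  have h2 := two_ne_zero_of_odd (K := K) (p := p) ho
  have hp2 : p ≠ 2 := char_ne_two_of_odd (K := K) ho
  have hpq := char_dvd K (p := p)
  have hq2 : 2 ≤ Nat.card K := Finite.one_lt_card
  have hpr : r ∣ ∏ i ∈ Finset.range m, (Nat.card K ^ (2 * (i + 1)) - 1) := by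
    by_cases hr2 : r = 2
    · subst hr2
      exact dvd_prod_idx (i := 0) (Finset.mem_range.2 (by omega))
        ((dvd_pow_self 2 (by norm_num : 3 ≠ 0)).trans (two_pow_sq ho))
    · exact odd_prod K (p := p) ho hr hrp hr2 hd
  rcases bc_split hm hq2 hr hpr with h4 | ⟨h4, -, h6, h7⟩
  · obtain ⟨e, i, e', i', -, hb, -, h6, -, h8, -⟩ := odd_pair K (p := p) ho h2 hm
    obtain ⟨x, hx⟩ := bc_key hm hq2 (odd_dvd K h2 ho (p := p) (k := m - 1) (n := 1) (by omega))
    have h10 := rm_p (p := p) hr hrp h4 hx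
    have h11 : r = 2 → 2 ^ (3 + 1) ∣ dg (CForm.oddF K (m - 1 + 1) h2) (m - 1) := fun _ =>
      prime_pow_dvd Nat.prime_two hp hp2.symm ((two_P2 ho).trans hx)
    exact adj_of_ch hb hp hr (Ne.symm hrp)
      (dvd_down hp h6 h8 (fun h => absurd h hp2) (Dvd.dvd.mul_left hpq _))
      (dvd_down hr h6 h8 (fun h => Dvd.dvd.mul_right (h11 h) _) (Dvd.dvd.mul_right h10 _))
  · obtain ⟨f, g, -, h14, -, h15⟩ := rk3_odd K h2 ho hm
    refine adj_of_ch h14 hp hr (Ne.symm hrp)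
      (p_dvd_rk hp hpq (fun h => absurd h hp2) (h15.trans (mul_assoc _ _ _))) ?_
    have h9 : ((Nat.card K ^ (m - 1) - 1 : ℕ) : ℤ) = (Nat.card K : ℤ) ^ (m - 1) - 1 := by
      rw [Nat.cast_sub (Nat.one_le_pow _ _ (by omega))]; push_cast; ring
    refine r_dvd_rk hr h7 (by omega) (X := (Nat.card K : ℤ) ^ (m - 1) - 1)
      (Y := (Nat.card K : ℤ) * ((Nat.card K : ℤ) ^ m + 1)) (by rw [h15]; ring) ?_
    rw [← h9]
    exact_mod_cast h6

end Cfsg.Agent.H722.HC
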