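import Cfsg.Agent.H477.HC.HcPt
import Cfsg.Agent.H477.HC.Rk3Chars

/-!
# The two rank 3 characters of the full isometry groups (helper722, for S4984)

`exists_chars_iso` : `exists_chars_of` for the full isometry group, with the complements in the permutation
character on the points, as needed for `exists_hc_pt`; `chars_plus`, `chars_minus`.
-/

set_option autoImplicit false

open scoped ComplexConjugate
open Cfsg

namespace Cfsg.Agent.H722.HC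

open Cfsg.Agent.OddOrderCharacters.Clifford Cfsg.Agent.Characters MulAction Module Cfsg.Agent.H53.HC
open Cfsg.Agent.H477.HC Cfsg.Agent.H477.HC.CForm

universe u v w

section

variable {K : Type u} [Field K] {V : Type v} [AddCommGroup V] [Module K V] {F : CForm K V}
  {X : Type w} [AddCommGroup X] [Module K X] {F' : CForm K X} {e f : V} {j : X →ₗ[K] V}

/-- **the two characters of `F.iso`** in the permutation character on the points -/
theorem exists_chars_sum [FiniteDimensional K V] [Finite V] [Finite K] [Finite X] (h : Hyp F F' e f j) {P P' : ℕ}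
    (hP : 2 ≤ P) (hP' : 1 ≤ P')
    (hX : Nat.card {x : X // F'.Sing x} = (P - 1) * (P' + 1) + 1)
    (hV : Nat.card {v : V // F.Sing v} = (Nat.card K * P - 1) * (Nat.card K * P' + 1) + 1) :
    ∃ (ψ₁ ψ₂ : F.iso → ℂ) (a b : ℕ), IsIrrCharacter _ ψ₁ ∧ IsIrrCharacter _ ψ₂ ∧ ψ₁ 1 = a ∧ ψ₂ 1 = b ∧
      ((Nat.card K : ℤ) - 1) * (P + P') * a = Nat.card K * P' * (P' + 1) * (Nat.card K * P - 1) ∧
      ((Nat.card K : ℤ) - 1) * (P + P') * b = Nat.card K * P * (P - 1) * (Nat.card K * P' + 1) ∧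
      (∀ g : F.iso, (Nat.card {y : F.Pt // g • y = y} : ℂ) = 1 + ψ₁ g + ψ₂ g) ∧
      ∀ (z : F.iso) (c : Kˣ), (∀ v, (z : V ≃ₗ[K] V) v = (c : K) • v) → ψ₁ z = ψ₁ 1 ∧ ψ₂ z = ψ₂ 1 := by
  classical
  have hq : 1 < Nat.card K := Finite.one_lt_card
  obtain ⟨q, hq'⟩ : ∃ q, q = Nat.card K := ⟨_, rfl⟩
  obtain ⟨n, hn⟩ : ∃ n, n = Nat.card F'.Pt := ⟨_, rfl⟩
  have hb := card_sing (F := F')
  rw [← hn] at hb
  rw [← hq'] at hq hV hb ⊢
  have hb1 : (q - 1) * n = (P - 1) * (P' + 1) := by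
    rw [hX] at hb
    exact Nat.add_right_cancel hb
  have hn0 : 0 < n := by
    rcases Nat.eq_zero_or_pos n with h0 | h0
    · exfalso
      rw [h0, mul_zero] at hb1
      have : 0 < (P - 1) * (P' + 1) := Nat.mul_pos (by omega) (by omega)
      omega
    · exact h0
  obtain ⟨s, rfl⟩ : ∃ s, q = s + 1 := ⟨q - 1, by omega⟩
  obtain ⟨t, rfl⟩ : ∃ t, P = t + 1 := ⟨P - 1, by omega⟩
  rw [Nat.add_sub_cancel, Nat.add_sub_cancel] at hb1
  have hl : (Nat.card K - 1) * (1 + Nat.card K * n + (s + 1) * ((t + 1) * P')) + 1 = Nat.card {v : V // F.Sing v} := by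
    rw [hV, ← hq', Nat.add_sub_cancel]
    have e1 : (s + 1) * (t + 1) - 1 = s * t + s + t := by
      have : (s + 1) * (t + 1) = s * t + s + t + 1 := by ring
      omega
    rw [e1]
    have e2 : s * (1 + (s + 1) * n + (s + 1) * ((t + 1) * P')) + 1 =
        s + (s + 1) * (s * n) + s * ((s + 1) * ((t + 1) * P')) + 1 := by ring
    rw [e2, hb1]
    ring
  obtain ⟨hr3, x₀, y₀, hxy, hR, hcom⟩ := r3 h (b := n) (l := (s + 1) * ((t + 1) * P')) (by rw [← hq']; exact hb) hl hn0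
    (by positivity) ⊤ (fun g x y => ⟨g, Subgroup.mem_top g, rfl, rfl⟩)
  have hbZ : (s : ℤ) * n = t * (P' + 1) := by exact_mod_cast hb1
  have := Fintype.ofFinite F.Pt
  have : Finite F.iso := finite_iso F
  have hnP : (t : ℤ) - (-(P' : ℤ) - 1) = t + 1 + P' := by ring
  obtain ⟨χ₁, χ₂, a, b, h1, h2, h3, h4, h5, h6⟩ := H113.PSU.Rank3.frame_exact hr3 hxy hR hcom
    (r := (t : ℤ)) (s := -(P' : ℤ) - 1) (by
      intro h0
      have : (t : ℤ) + 1 + P' = 0 := by rw [h0]; ring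
      omega)
    (by
      rw [← hq']
      push_cast
      linear_combination hbZ)
    (by
      rw [← hq']
      push_cast
      linear_combination (-(((s : ℤ) + 1) * n)) * hbZ)
  rw [← hq'] at h3 h4
  push_cast at h3 h4
  let φ : F.iso →* (⊤ : Subgroup F.iso) := (Subgroup.topEquiv (G := F.iso)).symm.toMonoidHom
  have hφs : Function.Surjective φ := (Subgroup.topEquiv (G := F.iso)).symm.surjective
  have hφ : ∀ g : F.iso, ((φ g : (⊤ : Subgroup F.iso)) : F.iso) = g := fun g => rfl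
  have hi1 : IsIrrCharacter _ ((χ₁ : (⊤ : Subgroup F.iso) → ℂ) ∘ φ) := Core.isIrr_comp φ hφs χ₁.2
  have hi2 : IsIrrCharacter _ ((χ₂ : (⊤ : Subgroup F.iso) → ℂ) ∘ φ) := Core.isIrr_comp φ hφs χ₂.2
  have hfix : ∀ g : F.iso, (Nat.card {y : F.Pt // g • y = y} : ℂ) =
      1 + (χ₁ : (⊤ : Subgroup F.iso) → ℂ) (φ g) + (χ₂ : (⊤ : Subgroup F.iso) → ℂ) (φ g) := by
    intro g
    rw [← h5 (φ g)]
    rfl
  refine ⟨_, _, a, b, hi1, hi2, ?_, ?_, ?_, ?_, hfix, ?_⟩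
  · rw [Function.comp_apply, map_one, h1]
  · rw [Function.comp_apply, map_one, h2]
  · push_cast
    linear_combination (s : ℤ) * h3 + (((s : ℤ) + 1) * P') * hbZ
  · push_cast
    linear_combination (s : ℤ) * h4 + (((s : ℤ) + 1) * (t + 1)) * hbZ
  · intro z c hz
    have h7 := h6 (φ z) (fun y => by
      apply Subtype.ext
      change (y.1).map (F.iso.subtype z : V →ₗ[K] V) = y.1
      exact map_eq_of_le F.iso.subtype fun w hw => by
        change (z : V ≃ₗ[K] V) w ∈ y.1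
        rw [hz]; exact y.1.smul_mem _ hw)
    rw [Function.comp_apply, Function.comp_apply, Function.comp_apply, Function.comp_apply, map_one, h1, h2]
    exact h7

/-- **the two characters of `F.iso`**, with their complements in the permutation character on the points -/
theorem exists_chars_iso [FiniteDimensional K V] [Finite V] [Finite K] [Finite X] (h : Hyp F F' e f j) {P P' : ℕ}
    (hP : 2 ≤ P) (hP' : 1 ≤ P')
    (hX : Nat.card {x : X // F'.Sing x} = (P - 1) * (P' + 1) + 1)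
    (hV : Nat.card {v : V // F.Sing v} = (Nat.card K * P - 1) * (Nat.card K * P' + 1) + 1) :
    ∃ (ψ₁ ψ₂ θ₁ θ₂ : F.iso → ℂ) (a b : ℕ), IsIrrCharacter _ ψ₁ ∧ IsIrrCharacter _ ψ₂ ∧ ψ₁ 1 = a ∧ ψ₂ 1 = b ∧
      ((Nat.card K : ℤ) - 1) * (P + P') * a = Nat.card K * P' * (P' + 1) * (Nat.card K * P - 1) ∧
      ((Nat.card K : ℤ) - 1) * (P + P') * b = Nat.card K * P * (P - 1) * (Nat.card K * P' + 1) ∧
      IsCharacter _ θ₁ ∧ IsCharacter _ θ₂ ∧
      (∀ g, ψ₁ g + θ₁ g = (Nat.card {y : F.Pt // g • y = y} : ℂ)) ∧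
      (∀ g, ψ₂ g + θ₂ g = (Nat.card {y : F.Pt // g • y = y} : ℂ)) ∧
      ∀ (z : F.iso) (c : Kˣ), (∀ v, (z : V ≃ₗ[K] V) v = (c : K) • v) → ψ₁ z = ψ₁ 1 ∧ ψ₂ z = ψ₂ 1 := by
  have : Finite F.iso := finite_iso F
  obtain ⟨ψ₁, ψ₂, a, b, h1, h2, h3, h4, h5, h6, h7, h8⟩ := exists_chars_sum h hP hP' hX hV
  have hone : IsCharacter F.iso (fun _ => (1 : ℂ)) := Core.isIrr_isCharacter Core.isIrr_one
  refine ⟨ψ₁, ψ₂, fun g => 1 + ψ₂ g, fun g => 1 + ψ₁ g, a, b, h1, h2, h3, h4, h5, h6,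
    Core.isCharacter_add hone (Core.isIrr_isCharacter h2), Core.isCharacter_add hone (Core.isIrr_isCharacter h1),
    fun g => ?_, fun g => ?_, h8⟩
  · rw [h7]; ring
  · rw [h7]; ring

end

section rows

variable (K : Type u) [Field K] [Finite K]

/-- **`O⁺_{2m}(q)`**, `m ≥ 2` -/
theorem chars_plus {m : ℕ} (hm : 2 ≤ m) : ∃ (ψ₁ ψ₂ θ₁ θ₂ : (CForm.plusF K m).iso → ℂ) (a b : ℕ),
    IsIrrCharacter _ ψ₁ ∧ IsIrrCharacter _ ψ₂ ∧ ψ₁ 1 = a ∧ ψ₂ 1 = b ∧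
    ((Nat.card K : ℤ) ^ 2 - 1) * a = Nat.card K * (Nat.card K ^ (m - 2) + 1) * ((Nat.card K : ℤ) ^ m - 1) ∧
    ((Nat.card K : ℤ) ^ 2 - 1) * b = Nat.card K ^ 2 * ((Nat.card K : ℤ) ^ (2 * m - 2) - 1) ∧
    IsCharacter _ θ₁ ∧ IsCharacter _ θ₂ ∧
    (∀ g, ψ₁ g + θ₁ g = (Nat.card {y : (CForm.plusF K m).Pt // g • y = y} : ℂ)) ∧
    (∀ g, ψ₂ g + θ₂ g = (Nat.card {y : (CForm.plusF K m).Pt // g • y = y} : ℂ)) ∧
    ∀ (z : (CForm.plusF K m).iso) (c : Kˣ),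
      (∀ v, (z : (Fin m ⊕ Fin m → K) ≃ₗ[K] (Fin m ⊕ Fin m → K)) v = (c : K) • v) → ψ₁ z = ψ₁ 1 ∧ ψ₂ z = ψ₂ 1 := by
  classical
  have hfin := Fintype.ofFinite K
  have hq : 2 ≤ Nat.card K := Finite.one_lt_card
  obtain ⟨n, rfl⟩ : ∃ n, m = n + 2 := ⟨m - 2, by omega⟩
  obtain ⟨e, f, j, h⟩ := CForm.frm_plus (K := K) (show 1 + (n + 1) = n + 2 by omega)
  have hc : Fintype.card K = Nat.card K := Nat.card_eq_fintype_card.symm
  obtain ⟨ψ₁, ψ₂, θ₁, θ₂, a, b, c1, c2, c3, c4, c5, c6, c7, c8, c9, c10, c11⟩ := exists_chars_iso h.hyp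
    (P := Nat.card K ^ (n + 1)) (P' := Nat.card K ^ n) (two_le_pow hq (by omega)) (Nat.one_le_pow _ _ (by omega))
    (by
      rw [card_Sing_quad, ← num_plus hq n]
      exact S0289.result hc (n + 1) (by omega))
    (by
      rw [card_Sing_quad, ← pow_succ', ← pow_succ', ← num_plus hq (n + 1)]
      exact S0289.result hc (n + 2) (by omega))
  refine ⟨ψ₁, ψ₂, θ₁, θ₂, a, b, c1, c2, c3, c4, ?_, ?_, c7, c8, c9, c10, c11⟩
  · have hz : ((Nat.card K : ℤ) ^ n) ≠ 0 := pow_ne_zero _ (by exact_mod_cast (by omega : Nat.card K ≠ 0))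
    apply mul_left_cancel₀ hz
    have e2 : n + 2 - 2 = n := by omega
    rw [e2]
    push_cast at c5
    linear_combination c5
  · have hz : ((Nat.card K : ℤ) ^ n) ≠ 0 := pow_ne_zero _ (by exact_mod_cast (by omega : Nat.card K ≠ 0))
    apply mul_left_cancel₀ hz
    have e2 : 2 * (n + 2) - 2 = (n + 1) + (n + 1) := by omega
    rw [e2]
    push_cast at c6
    linear_combination c6

/-- **`O⁻_{2l+2}(q)`**, `l ≥ 2` -/
theorem chars_minus (a b : K) (hab : ∀ z₁ z₂ : K, z₁ ^ 2 + a * z₁ * z₂ + b * z₂ ^ 2 = 0 → z₁ = 0 ∧ z₂ = 0) {l : ℕ}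
    (hl : 2 ≤ l) : ∃ (ψ₁ ψ₂ θ₁ θ₂ : (CForm.minusF K l a b hab).iso → ℂ) (s t : ℕ),
    IsIrrCharacter _ ψ₁ ∧ IsIrrCharacter _ ψ₂ ∧ ψ₁ 1 = s ∧ ψ₂ 1 = t ∧
    ((Nat.card K : ℤ) ^ 2 - 1) * s = Nat.card K ^ 2 * ((Nat.card K : ℤ) ^ (2 * l) - 1) ∧
    ((Nat.card K : ℤ) ^ 2 - 1) * t = Nat.card K * (Nat.card K ^ (l + 1) + 1) * ((Nat.card K : ℤ) ^ (l - 1) - 1) ∧
    IsCharacter _ θ₁ ∧ IsCharacter _ θ₂ ∧
    (∀ g, ψ₁ g + θ₁ g = (Nat.card {y : (CForm.minusF K l a b hab).Pt // g • y = y} : ℂ)) ∧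
    (∀ g, ψ₂ g + θ₂ g = (Nat.card {y : (CForm.minusF K l a b hab).Pt // g • y = y} : ℂ)) ∧
    ∀ (z : (CForm.minusF K l a b hab).iso) (c : Kˣ),
      (∀ v, (z : ((Fin l ⊕ Fin l) ⊕ Fin 2 → K) ≃ₗ[K] ((Fin l ⊕ Fin l) ⊕ Fin 2 → K)) v = (c : K) • v) →
        ψ₁ z = ψ₁ 1 ∧ ψ₂ z = ψ₂ 1 := by
  classical
  have hfin := Fintype.ofFinite K
  have hq : 2 ≤ Nat.card K := Finite.one_lt_card
  obtain ⟨n, rfl⟩ : ∃ n, l = n + 1 := ⟨l - 1, by omega⟩
  obtain ⟨e, f, j, h⟩ := CForm.frm_minus (K := K) hab (show 1 + n = n + 1 by omega)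
  have hc : Fintype.card K = Nat.card K := Nat.card_eq_fintype_card.symm
  obtain ⟨ψ₁, ψ₂, θ₁, θ₂, s, t, c1, c2, c3, c4, c5, c6, c7, c8, c9, c10, c11⟩ := exists_chars_iso h.hyp
    (P := Nat.card K ^ n)
    (P' := Nat.card K ^ (n + 1)) (two_le_pow hq (by omega)) (Nat.one_le_pow _ _ (by omega))
    (by
      rw [card_Sing_quad, ← num_minus hq n]
      exact S0290.result hc (n + 1) (by omega) a b hab)
    (by
      rw [card_Sing_quad, ← pow_succ', ← pow_succ', ← num_minus hq (n + 1)]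
      exact S0290.result hc (n + 2) (by omega) a b hab)
  refine ⟨ψ₁, ψ₂, θ₁, θ₂, s, t, c1, c2, c3, c4, ?_, ?_, c7, c8, c9, c10, c11⟩
  · have hz : ((Nat.card K : ℤ) ^ n) ≠ 0 := pow_ne_zero _ (by exact_mod_cast (by omega : Nat.card K ≠ 0))
    apply mul_left_cancel₀ hz
    have e2 : 2 * (n + 1) = (n + 1) + (n + 1) := by omega
    rw [e2]
    push_cast at c5
    linear_combination c5
  · have hz : ((Nat.card K : ℤ) ^ n) ≠ 0 := pow_ne_zero _ (by exact_mod_cast (by omega : Nat.card K ≠ 0))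
    apply mul_left_cancel₀ hz
    have e2 : n + 1 - 1 = n := by omega
    rw [e2]
    push_cast at c6
    linear_combination c6

/-- the same for `O⁻_{2l+2}(q)`, `l ≥ 2`, with the sum -/
theorem sum_minus (a b : K) (hab : ∀ z₁ z₂ : K, z₁ ^ 2 + a * z₁ * z₂ + b * z₂ ^ 2 = 0 → z₁ = 0 ∧ z₂ = 0) {l : ℕ}
    (hl : 2 ≤ l) : ∃ (ψ₁ ψ₂ : (CForm.minusF K l a b hab).iso → ℂ) (s t : ℕ),
    IsIrrCharacter _ ψ₁ ∧ IsIrrCharacter _ ψ₂ ∧ ψ₁ 1 = s ∧ ψ₂ 1 = t ∧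
    ((Nat.card K : ℤ) ^ 2 - 1) * s = Nat.card K ^ 2 * ((Nat.card K : ℤ) ^ (2 * l) - 1) ∧
    ((Nat.card K : ℤ) ^ 2 - 1) * t = Nat.card K * (Nat.card K ^ (l + 1) + 1) * ((Nat.card K : ℤ) ^ (l - 1) - 1) ∧
    (∀ g : (CForm.minusF K l a b hab).iso, (Nat.card {y : (CForm.minusF K l a b hab).Pt // g • y = y} : ℂ) =
      1 + ψ₁ g + ψ₂ g) ∧
    ∀ (z : (CForm.minusF K l a b hab).iso) (c : Kˣ),
      (∀ v, (z : ((Fin l ⊕ Fin l) ⊕ Fin 2 → K) ≃ₗ[K] ((Fin l ⊕ Fin l) ⊕ Fin 2 → K)) v = (c : K) • v) →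
        ψ₁ z = ψ₁ 1 ∧ ψ₂ z = ψ₂ 1 := by
  classical
  have hfin := Fintype.ofFinite K
  have hq : 2 ≤ Nat.card K := Finite.one_lt_card
  obtain ⟨n, rfl⟩ : ∃ n, l = n + 1 := ⟨l - 1, by omega⟩
  obtain ⟨e, f, j, h⟩ := CForm.frm_minus (K := K) hab (show 1 + n = n + 1 by omega)
  have hc : Fintype.card K = Nat.card K := Nat.card_eq_fintype_card.symm
  obtain ⟨ψ₁, ψ₂, s, t, c1, c2, c3, c4, c5, c6, c9, c11⟩ := exists_chars_sum h.hyp
    (P := Nat.card K ^ n)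
    (P' := Nat.card K ^ (n + 1)) (two_le_pow hq (by omega)) (Nat.one_le_pow _ _ (by omega))
    (by
      rw [card_Sing_quad, ← num_minus hq n]
      exact S0290.result hc (n + 1) (by omega) a b hab)
    (by
      rw [card_Sing_quad, ← pow_succ', ← pow_succ', ← num_minus hq (n + 1)]
      exact S0290.result hc (n + 2) (by omega) a b hab)
  refine ⟨ψ₁, ψ₂, s, t, c1, c2, c3, c4, ?_, ?_, c9, c11⟩
  · have hz : ((Nat.card K : ℤ) ^ n) ≠ 0 := pow_ne_zero _ (by exact_mod_cast (by omega : Nat.card K ≠ 0))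
    apply mul_left_cancel₀ hz
    have e2 : 2 * (n + 1) = (n + 1) + (n + 1) := by omega
    rw [e2]
    push_cast at c5
    linear_combination c5
  · have hz : ((Nat.card K : ℤ) ^ n) ≠ 0 := pow_ne_zero _ (by exact_mod_cast (by omega : Nat.card K ≠ 0))
    apply mul_left_cancel₀ hz
    have e2 : n + 1 - 1 = n := by omega
    rw [e2]
    push_cast at c6
    linear_combination c6

end rows

end Cfsg.Agent.H722.HC
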