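import Cfsg.Agent.H477.HC.Hecke
import Cfsg.Agent.H477.HC.RowSp
import Cfsg.Agent.H477.HC.Levi

/-!
# Transvections of `Sp_{2n}(q)`; cuspidal representations of `Sp_2(q)` (helper722, for S4984)

`tv c a : x ↦ x + c B(x,a) a`; `Cu τ` : the sums of `τ` over the groups `{tv c a : c}`, `a ≠ 0`, vanish.
`exists_cu` : for an odd prime `r ∣ q - 1` an irreducible representation `τ` of `Sp_2(q)` with `Cu τ`, trivial on `-1`, of
dimension divisible by `r`.
-/

set_option autoImplicit false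
set_option linter.unusedSectionVars false

open scoped ComplexConjugate
open Cfsg

namespace Cfsg.Agent.H722.HC

open Cfsg.Agent.OddOrderCharacters.Clifford Cfsg.Agent.Characters Module Cfsg.Agent.H53.HC Cfsg.Agent.H477.HC

universe u v w

section tv

variable {K : Type u} [Field K] {n : ℕ}

theorem sp_symm (x y : Fin n ⊕ Fin n → K) : (CForm.spF K n).B x y = -(CForm.spF K n).B y x := by
  rw [(CForm.spF K n).B_symm]
  simp

theorem sp_self (x : Fin n ⊕ Fin n → K) : (CForm.spF K n).B x x = 0 := (CForm.spF K n).alt x rfl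

theorem sp_smul_right (c : K) (x y : Fin n ⊕ Fin n → K) :
    (CForm.spF K n).B x (c • y) = c * (CForm.spF K n).B x y := by
  rw [(CForm.spF K n).B_smul_right]
  rfl

theorem exists_tv (c : K) (a : Fin n ⊕ Fin n → K) : ∃ g : (CForm.spF K n).iso,
    ∀ x, (g : (Fin n ⊕ Fin n → K) ≃ₗ[K] (Fin n ⊕ Fin n → K)) x = x + (c * (CForm.spF K n).B x a) • a := by
  refine (CForm.spF K n).exists_iso (LinearMap.id + (c • (CForm.spF K n).lf a).smulRight a) (fun x y => ?_)
    (fun _ => rfl)
  change (CForm.spF K n).B (x + (c * (CForm.spF K n).B x a) • a) (y + (c * (CForm.spF K n).B y a) • a) = _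
  rw [(CForm.spF K n).B_add_left, (CForm.spF K n).B_add_right, (CForm.spF K n).B_add_right,
    (CForm.spF K n).B_smul_left, (CForm.spF K n).B_smul_left, sp_smul_right, sp_smul_right, sp_self, sp_symm a y]
  ring

/-- the transvections -/
noncomputable def tv (c : K) (a : Fin n ⊕ Fin n → K) : (CForm.spF K n).iso := (exists_tv c a).choose

theorem tv_apply (c : K) (a x : Fin n ⊕ Fin n → K) :
    (tv c a : (Fin n ⊕ Fin n → K) ≃ₗ[K] (Fin n ⊕ Fin n → K)) x = x + (c * (CForm.spF K n).B x a) • a :=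
  (exists_tv c a).choose_spec x

theorem iso_ext {g g' : (CForm.spF K n).iso} (h : ∀ x, (g : (Fin n ⊕ Fin n → K) ≃ₗ[K] (Fin n ⊕ Fin n → K)) x =
    (g' : (Fin n ⊕ Fin n → K) ≃ₗ[K] (Fin n ⊕ Fin n → K)) x) : g = g' := Subtype.ext (LinearEquiv.ext h)

theorem tv_zero_right (c : K) : tv c (0 : Fin n ⊕ Fin n → K) = 1 := iso_ext fun x => by
  rw [tv_apply, smul_zero, add_zero]; rfl

theorem tv_zero (a : Fin n ⊕ Fin n → K) : tv (0 : K) a = 1 := iso_ext fun x => by
  rw [tv_apply, zero_mul, zero_smul, add_zero]; rfl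

theorem tv_add (c c' : K) (a : Fin n ⊕ Fin n → K) : tv c a * tv c' a = tv (c + c') a := iso_ext fun x => by
  rw [CForm.mul_apply', tv_apply, tv_apply, tv_apply, (CForm.spF K n).B_add_left, (CForm.spF K n).B_smul_left,
    sp_self]
  module

theorem tv_inv (c : K) (a : Fin n ⊕ Fin n → K) : (tv c a)⁻¹ = tv (-c) a := by
  rw [inv_eq_iff_mul_eq_one, tv_add, add_neg_cancel, tv_zero]

theorem tv_conj (g : (CForm.spF K n).iso) (c : K) (a : Fin n ⊕ Fin n → K) :
    g * tv c a * g⁻¹ = tv c ((g : (Fin n ⊕ Fin n → K) ≃ₗ[K] (Fin n ⊕ Fin n → K)) a) := iso_ext fun x => by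
  rw [CForm.mul_apply', CForm.mul_apply', tv_apply, tv_apply, map_add, map_smul, CForm.apply_inv', CForm.B_inv]

theorem tv_smul (c b : K) (a : Fin n ⊕ Fin n → K) : tv c (b • a) = tv (b ^ 2 * c) a := iso_ext fun x => by
  rw [tv_apply, tv_apply, sp_smul_right]
  module

end tv

section cu

variable {K : Type u} [Field K] [Fintype K] {n : ℕ} {M : Type v} [AddCommGroup M] [Module ℂ M]

/-- cuspidality -/
def Cu (τ : Representation ℂ (CForm.spF K n).iso M) : Prop :=
  ∀ a : Fin n ⊕ Fin n → K, a ≠ 0 → ∑ c : K, τ (tv c a) = 0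

theorem Cu.fix {τ : Representation ℂ (CForm.spF K n).iso M} (h : Cu τ) {a : Fin n ⊕ Fin n → K} (ha : a ≠ 0) {m : M}
    (hm : ∀ c : K, τ (tv c a) m = m) : m = 0 := by
  have h1 := LinearMap.congr_fun (h a ha) m
  rw [LinearMap.sum_apply, Finset.sum_congr rfl fun c _ => hm c, Finset.sum_const, Finset.card_univ,
    ← Nat.cast_smul_eq_nsmul ℂ, LinearMap.zero_apply] at h1
  exact (smul_eq_zero.1 h1).resolve_left (Nat.cast_ne_zero.2 Fintype.card_ne_zero)

theorem eq_zero_of_idem [FiniteDimensional ℂ M] {T : M →ₗ[ℂ] M} (h : T * T = T)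
    (h0 : LinearMap.trace ℂ M T = 0) : T = 0 := by
  obtain ⟨p, hp⟩ := LinearMap.isProj_iff_isIdempotentElem (f := T) |>.2 h
  have h1 := hp.trace
  rw [h0] at h1
  have h2 : finrank ℂ p = 0 := by exact_mod_cast h1.symm
  have h3 : p = ⊥ := Submodule.finrank_eq_zero.1 h2
  refine LinearMap.ext fun x => ?_
  have h4 := hp.map_mem x
  rw [h3] at h4
  exact (Submodule.mem_bot ℂ).1 h4

/-- cuspidality from characters -/
theorem cu_of_char [FiniteDimensional ℂ M] {τ : Representation ℂ (CForm.spF K n).iso M}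
    (h : ∀ a : Fin n ⊕ Fin n → K, a ≠ 0 → ∑ c : K, τ.character (tv c a) = 0) : Cu τ := by
  intro a ha
  have hq : (Fintype.card K : ℂ) ≠ 0 := Nat.cast_ne_zero.2 Fintype.card_ne_zero
  set E : M →ₗ[ℂ] M := ∑ c : K, τ (tv c a) with hE
  have h1 : ∀ c' : K, τ (tv c' a) * E = E := by
    intro c'
    rw [hE, Finset.mul_sum]
    refine Fintype.sum_equiv (Equiv.addLeft c') _ _ fun c => ?_
    rw [← map_mul, tv_add]
    rfl
  have h2 : E * E = (Fintype.card K : ℂ) • E := by
    conv_lhs => rw [hE]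
    rw [← hE, Finset.sum_mul, Finset.sum_congr rfl fun c _ => h1 c, Finset.sum_const, Finset.card_univ,
      ← Nat.cast_smul_eq_nsmul ℂ]
  have h3 : (Fintype.card K : ℂ)⁻¹ • E = 0 := by
    refine eq_zero_of_idem ?_ ?_
    · rw [smul_mul_smul_comm, h2, smul_smul]
      congr 1
      field_simp
    · rw [map_smul, hE, map_sum]
      have : ∑ c : K, LinearMap.trace ℂ M (τ (tv c a)) = 0 := h a ha
      rw [this, smul_zero]
  exact (smul_eq_zero.1 h3).resolve_left (inv_ne_zero hq)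

/-- the dimension of a cuspidal representation is divisible by the odd primes dividing `q - 1` -/
theorem Cu.dvd_finrank [FiniteDimensional ℂ M] {τ : Representation ℂ (CForm.spF K n).iso M} (h : Cu τ)
    {t : (CForm.spF K n).iso} {a : Fin n ⊕ Fin n → K} (ha : a ≠ 0) {r : ℕ} (hr : r.Prime) (hr2 : r ≠ 2) {α : Kˣ}
    (hα : orderOf α = r)
    (hta : (t : (Fin n ⊕ Fin n → K) ≃ₗ[K] (Fin n ⊕ Fin n → K)) a = (α : K) • a) (htr : t ^ r = 1) :
    r ∣ finrank ℂ M := by
  classical
  have hq : (Fintype.card K : ℂ) ≠ 0 := Nat.cast_ne_zero.2 Fintype.card_ne_zero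
  have hti : ∀ i : ℕ, ((t ^ i : (CForm.spF K n).iso) : (Fin n ⊕ Fin n → K) ≃ₗ[K] (Fin n ⊕ Fin n → K)) a =
      ((α ^ i : Kˣ) : K) • a := by
    intro i
    induction i with
    | zero => rw [pow_zero, pow_zero, Units.val_one, one_smul]; rfl
    | succ i ih => rw [pow_succ, CForm.mul_apply', hta, map_smul, ih, smul_smul, pow_succ', Units.val_mul]
  -- the character vanishes on the powers of `t`
  have key : ∀ i : ℕ, ¬ r ∣ i → τ.character (t ^ i) = 0 := by
    intro i hi
    have hβ : 1 - ((α ^ i : Kˣ) : K) ^ 2 ≠ 0 := by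
      intro h0
      have h1 : α ^ (i * 2) = 1 := by
        rw [pow_mul]
        apply Units.ext
        rw [Units.val_pow_eq_pow_val, Units.val_one]
        exact (sub_eq_zero.1 h0).symm
      have h2 := orderOf_dvd_of_pow_eq_one h1
      rw [hα] at h2
      rcases hr.dvd_mul.1 h2 with h3 | h3
      · exact hi h3
      · exact hr2 ((Nat.prime_dvd_prime_iff_eq hr Nat.prime_two).1 h3)
    have h1 : ∀ c : K, τ.character (tv ((1 - ((α ^ i : Kˣ) : K) ^ 2) * c) a * t ^ i) = τ.character (t ^ i) := by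
      intro c
      have h2 : tv c a * t ^ i * (tv c a)⁻¹ = tv ((1 - ((α ^ i : Kˣ) : K) ^ 2) * c) a * t ^ i := by
        have h3 : tv c a * t ^ i * (tv c a)⁻¹ = tv c a * (t ^ i * tv (-c) a * (t ^ i)⁻¹) * t ^ i := by
          rw [tv_inv]; group
        rw [h3, tv_conj, hti, tv_smul, tv_add]
        congr 2
        ring
      rw [← h2]
      exact (Core.isCharacter_isClassFunction (Core.isCharacter_of_rep τ)) (t ^ i) (tv c a)
    have h4 : ∑ c : K, τ.character (tv c a * t ^ i) = 0 := by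
      have h5 : ∑ c : K, τ.character (tv c a * t ^ i) = LinearMap.trace ℂ M ((∑ c : K, τ (tv c a)) * τ (t ^ i)) := by
        rw [Finset.sum_mul, map_sum]
        refine Finset.sum_congr rfl fun c _ => ?_
        rw [← map_mul]
        rfl
      rw [h5, h a ha, zero_mul, map_zero]
    have h5 : ∑ c : K, τ.character (tv c a * t ^ i) = (Fintype.card K : ℂ) * τ.character (t ^ i) := by
      rw [← nsmul_eq_mul, ← Finset.card_univ, ← Finset.sum_const]
      refine (Fintype.sum_equiv (Equiv.mulLeft₀ _ hβ) _ _ fun c => ?_).symm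
      exact (h1 c).symm
    rw [h5] at h4
    exact (mul_eq_zero.1 h4).resolve_left hq
  have ht1 : t ≠ 1 := by
    rintro rfl
    have h1 : a = (α : K) • a := hta
    have h2 : (1 - (α : K)) • a = 0 := by rw [sub_smul, one_smul, ← h1, sub_self]
    have h3 : (α : K) = 1 := (sub_eq_zero.1 ((smul_eq_zero.1 h2).resolve_right ha)).symm
    have h4 : α = 1 := Units.ext h3
    rw [h4, orderOf_one] at hα
    exact hr.one_lt.ne hα
  have hot : orderOf t = r := orderOf_eq_prime (hp := ⟨hr⟩) htr ht1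
  have := finite_iso (CForm.spF K n)
  let _ : Fintype (Subgroup.zpowers t) := Fintype.ofFinite _
  obtain ⟨k, hk⟩ := Core.classInner_isNat
    (Core.isCharacter_comp (Subgroup.zpowers t).subtype (Core.isCharacter_of_rep τ))
    (Core.isCharacter_one (G := Subgroup.zpowers t))
  rw [Core.classInner_def, Finset.sum_eq_single (1 : Subgroup.zpowers t)] at hk
  · rw [Nat.card_zpowers, hot, Pi.one_apply, map_one, mul_one, Function.comp_apply, map_one,
      Representation.char_one] at hk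
    have hr0 : (r : ℂ) ≠ 0 := Nat.cast_ne_zero.2 hr.ne_zero
    refine ⟨k, ?_⟩
    have h1 : (finrank ℂ M : ℂ) = r * k := by
      rw [← hk, ← mul_assoc, mul_inv_cancel₀ hr0, one_mul]
    exact_mod_cast h1
  · rintro ⟨z, hz⟩ - hz1
    obtain ⟨i, hi⟩ := (Submonoid.mem_powers_iff z t).1 ((mem_powers_iff_mem_zpowers).2 hz)
    have h1 : ¬ r ∣ i := by
      rintro ⟨s, rfl⟩
      apply hz1
      apply Subtype.ext
      change z = 1
      rw [← hi, pow_mul, htr, one_pow]
    have h2 : τ.character z = 0 := by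
      rw [← hi]
      exact key i h1
    change τ.character z * _ = 0
    rw [h2, zero_mul]
  · intro h0
    exact absurd (Finset.mem_univ _) h0

end cu


section exist

variable (K : Type u) [Field K]

theorem perp_one {a w : Fin 1 ⊕ Fin 1 → K} (ha : a ≠ 0) (h : (CForm.spF K 1).B w a = 0) : ∃ s : K, w = s • a := by
  have h1 : w (.inl 0) * a (.inr 0) - w (.inr 0) * a (.inl 0) = 0 := by
    have : (CForm.spF K 1).B w a = w (.inl 0) * a (.inr 0) - w (.inr 0) * a (.inl 0) := by
      simp only [CForm.spF_B, Fin.sum_univ_one]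
    rw [← this]; exact h
  by_cases h2 : a (.inl 0) = 0
  · have h3 : a (.inr 0) ≠ 0 := by
      intro h3
      apply ha
      ext s
      rcases s with s | s
      · rw [Subsingleton.elim s 0]; exact h2
      · rw [Subsingleton.elim s 0]; exact h3
    rw [h2, mul_zero, sub_zero] at h1
    have h4 : w (.inl 0) = 0 := (mul_eq_zero.1 h1).resolve_right h3
    refine ⟨w (.inr 0) / a (.inr 0), ?_⟩
    ext s
    rcases s with s | s
    · rw [Subsingleton.elim s 0, Pi.smul_apply, h2, h4, smul_zero]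
    · rw [Subsingleton.elim s 0, Pi.smul_apply, smul_eq_mul]
      field_simp
  · refine ⟨w (.inl 0) / a (.inl 0), ?_⟩
    ext s
    rcases s with s | s
    · rw [Subsingleton.elim s 0, Pi.smul_apply, smul_eq_mul]
      field_simp
    · rw [Subsingleton.elim s 0, Pi.smul_apply, smul_eq_mul]
      field_simp
      linear_combination -h1

theorem exists_B_one {n : ℕ} {a : Fin n ⊕ Fin n → K} (ha : a ≠ 0) : ∃ y, (CForm.spF K n).B y a = 1 := by
  have h1 : ∃ u, (CForm.spF K n).B a u ≠ 0 := by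
    by_contra h
    push Not at h
    exact ha ((CForm.spF K n).nondeg a h)
  obtain ⟨u, hu⟩ := h1
  refine ⟨(-(CForm.spF K n).B a u)⁻¹ • u, ?_⟩
  rw [(CForm.spF K n).B_smul_left, sp_symm u a]
  exact inv_mul_cancel₀ (neg_ne_zero.2 hu)

/-- the torus element -/
theorem exists_tor (α : Kˣ) : ∃ t : (CForm.spF K 1).iso,
    (t : (Fin 1 ⊕ Fin 1 → K) ≃ₗ[K] (Fin 1 ⊕ Fin 1 → K)) (Pi.single (.inl 0) 1) = (α : K) • Pi.single (.inl 0) 1 ∧
      ∀ r : ℕ, α ^ r = 1 → t ^ r = 1 := by
  let f : (Fin 1 ⊕ Fin 1 → K) →ₗ[K] (Fin 1 ⊕ Fin 1 → K) :=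
    { toFun := fun x => Sum.elim (fun i => (α : K) * x (.inl i)) (fun i => ((α⁻¹ : Kˣ) : K) * x (.inr i))
      map_add' := fun x y => by
        ext s
        rcases s with s | s
        · exact mul_add _ _ _
        · exact mul_add _ _ _
      map_smul' := fun c x => by
        ext s
        rcases s with s | s
        · exact mul_left_comm _ _ _
        · exact mul_left_comm _ _ _ }
  have hf1 : ∀ x, f x (.inl 0) = (α : K) * x (.inl 0) := fun x => rfl
  have hf2 : ∀ x, f x (.inr 0) = ((α⁻¹ : Kˣ) : K) * x (.inr 0) := fun x => rfl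
  have hα : (α : K) * ((α⁻¹ : Kˣ) : K) = 1 := α.mul_inv
  obtain ⟨t, ht⟩ := (CForm.spF K 1).exists_iso f (fun x y => by
    simp only [CForm.spF_B, Fin.sum_univ_one, hf1, hf2]
    linear_combination (x (.inl 0) * y (.inr 0) - x (.inr 0) * y (.inl 0)) * hα) (fun _ => rfl)
  refine ⟨t, ?_, fun r hr => ?_⟩
  · rw [ht]
    ext s
    rcases s with s | s
    · rw [Subsingleton.elim s 0, hf1, Pi.smul_apply, smul_eq_mul]
    · rw [Subsingleton.elim s 0, hf2, Pi.smul_apply, smul_eq_mul]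
      simp
  · have h1 : ∀ i : ℕ, ∀ x, ((t ^ i : (CForm.spF K 1).iso) : (Fin 1 ⊕ Fin 1 → K) ≃ₗ[K] (Fin 1 ⊕ Fin 1 → K)) x (.inl 0) =
        (α : K) ^ i * x (.inl 0) ∧
        ((t ^ i : (CForm.spF K 1).iso) : (Fin 1 ⊕ Fin 1 → K) ≃ₗ[K] (Fin 1 ⊕ Fin 1 → K)) x (.inr 0) =
        ((α⁻¹ : Kˣ) : K) ^ i * x (.inr 0) := by
      intro i
      induction i with
      | zero =>
        intro x
        rw [pow_zero, pow_zero, pow_zero, one_mul, one_mul]
        exact ⟨rfl, rfl⟩
      | succ i ih =>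
        intro x
        rw [pow_succ, CForm.mul_apply', ht, (ih _).1, (ih _).2, hf1, hf2]
        constructor <;> ring
    refine iso_ext fun x => ?_
    ext s
    have h2 := h1 r x
    have h3 : (α : K) ^ r = 1 := by rw [← Units.val_pow_eq_pow_val, hr, Units.val_one]
    have h4 : ((α⁻¹ : Kˣ) : K) ^ r = 1 := by rw [← Units.val_pow_eq_pow_val, inv_pow, hr, inv_one, Units.val_one]
    rw [h3, h4, one_mul, one_mul] at h2
    rcases s with s | s
    · rw [Subsingleton.elim s 0]; exact h2.1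
    · rw [Subsingleton.elim s 0]; exact h2.2

/-- cuspidal representations of `Sp_2(q)` from cuspidal characters of `GL_2(q)` -/
theorem cu_of_cusp [Fintype K] {c : GL (Fin 2) K → ℂ} (hirr : IsIrrCharacter _ c) (hcusp : IsCusp c) :
    ∃ (M : Type) (_ : AddCommGroup M) (_ : Module ℂ M) (_ : FiniteDimensional ℂ M)
      (τ : Representation ℂ (CForm.spF K 1).iso M), τ.IsIrreducible ∧ Cu τ ∧
      (c (Matrix.GeneralLinearGroup.scalar (Fin 2) (-1)) = c 1 → ∀ z : (CForm.spF K 1).iso,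
        (∀ x, (z : (Fin 1 ⊕ Fin 1 → K) ≃ₗ[K] (Fin 1 ⊕ Fin 1 → K)) x = -x) → τ z = 1) := by
  classical
  have hcl := Core.isIrr_isClassFunction hirr
  have hirr' := hirr
  obtain ⟨k, ρ₀, hρ₀, hρc⟩ := hirr'
  have hX : finrank K (Fin 1 ⊕ Fin 1 → K) = 2 := by simp
  let b := finBasisOfFinrankEq K (Fin 1 ⊕ Fin 1 → K) hX
  let φ : (CForm.spF K 1).iso →* GL (Fin 2) K := (glE b).toMonoidHom.comp (CForm.spF K 1).iso.subtype
  let C : Representation ℂ (CForm.spF K 1).iso (Fin k → ℂ) := ρ₀.comp φ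
  have hCc : ∀ g : (CForm.spF K 1).iso, C.character g = c (glE b (g : (Fin 1 ⊕ Fin 1 → K) ≃ₗ[K] _)) := by
    intro g
    rw [← hρc]
    rfl
  have hCu : Cu C := by
    refine cu_of_char fun a ha => ?_
    set D : Submodule K (Fin 1 ⊕ Fin 1 → K) := Submodule.span K {a} with hD
    have hD1 : finrank K D = 1 := finrank_span_singleton ha
    have : Finite ((Fin 1 ⊕ Fin 1 → K) ≃ₗ[K] (Fin 1 ⊕ Fin 1 → K)) :=
      Finite.of_injective (fun e : (Fin 1 ⊕ Fin 1 → K) ≃ₗ[K] (Fin 1 ⊕ Fin 1 → K) => (e : _ → _)) DFunLike.coe_injective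
    let _ : Fintype (radU D) := Fintype.ofFinite _
    have h1 := hcusp.sum_eq hcl b D (by
      rw [hD, Ne, Submodule.span_singleton_eq_bot]; exact ha) (by
      intro h2
      rw [h2, finrank_top, hX] at hD1
      omega)
    rw [← h1]
    obtain ⟨y, hy⟩ := exists_B_one K ha
    have hmem : ∀ s : K, ((tv s a : (CForm.spF K 1).iso) : (Fin 1 ⊕ Fin 1 → K) ≃ₗ[K] (Fin 1 ⊕ Fin 1 → K)) ∈ radU D := by
      intro s
      refine ⟨fun w => ?_, fun d hd => ?_⟩
      · rw [tv_apply, add_sub_cancel_left]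
        exact D.smul_mem _ (Submodule.mem_span_singleton_self a)
      · obtain ⟨e, rfl⟩ := Submodule.mem_span_singleton.1 hd
        rw [tv_apply, (CForm.spF K 1).B_smul_left, sp_self, mul_zero, mul_zero, zero_smul, add_zero]
    refine Fintype.sum_bijective (fun s : K => (⟨_, hmem s⟩ : radU D)) ⟨fun s s' hs => ?_, fun u => ?_⟩ _ _
      fun s => ?_
    · have h2' := congrArg (fun u : radU D => (u : (Fin 1 ⊕ Fin 1 → K) ≃ₗ[K] (Fin 1 ⊕ Fin 1 → K))) hs
      have h2 : (tv s a : (CForm.spF K 1).iso) = tv s' a := Subtype.ext h2'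
      have h3 := congrArg (fun g : (CForm.spF K 1).iso => (g : (Fin 1 ⊕ Fin 1 → K) ≃ₗ[K] (Fin 1 ⊕ Fin 1 → K)) y) h2
      simp only [tv_apply, hy, mul_one] at h3
      have h4 : (s - s') • a = 0 := by
        rw [sub_smul, sub_eq_zero]
        exact add_left_cancel h3
      exact sub_eq_zero.1 ((smul_eq_zero.1 h4).resolve_right ha)
    · obtain ⟨u, hu1, hu2⟩ := u
      obtain ⟨s, hs⟩ := Submodule.mem_span_singleton.1 (hu1 y)
      refine ⟨s, Subtype.ext (LinearEquiv.ext fun w => ?_)⟩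
      rw [tv_apply]
      obtain ⟨e, he⟩ := perp_one K ha (w := w - (CForm.spF K 1).B w a • y) (by
        rw [(CForm.spF K 1).B_sub_left, (CForm.spF K 1).B_smul_left, hy, mul_one, sub_self])
      have h5 : u (w - (CForm.spF K 1).B w a • y) = w - (CForm.spF K 1).B w a • y := by
        rw [he]
        exact hu2 _ (D.smul_mem _ (Submodule.mem_span_singleton_self a))
      rw [map_sub, map_smul] at h5
      have h6 : u y = y + s • a := by rw [hs]; abel
      rw [h6] at h5
      have h7 : u w = w - (CForm.spF K 1).B w a • y + (CForm.spF K 1).B w a • (y + s • a) := by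
        rw [← h5]; abel
      change w + (s * (CForm.spF K 1).B w a) • a = u w
      rw [h7]
      module
    · rw [hCc]
      exact (cl_eq hcl b _).symm
  have hk : Nonempty (Fin k) := by
    by_contra hk
    have h1 := Core.isIrr_apply_one_ne_zero hirr
    apply h1
    rw [← hρc, Representation.char_one]
    have : IsEmpty (Fin k) := not_nonempty_iff.1 hk
    simp [finrank_fintype_fun_eq_card]
  obtain ⟨U, hU⟩ := Core.exists_irreducible_sub C
  have hUC : ∀ (g : (CForm.spF K 1).iso) (m : U.toSubmodule), ((U.toRepresentation g m : U.toSubmodule) : Fin k → ℂ) =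
      C g m := fun _ _ => rfl
  have hUcu : Cu U.toRepresentation := by
    intro a ha
    refine LinearMap.ext fun m => Subtype.ext ?_
    have h1 := LinearMap.congr_fun (hCu a ha) (m : Fin k → ℂ)
    rw [LinearMap.sum_apply] at h1 ⊢
    rw [AddSubmonoidClass.coe_finsetSum]
    exact h1
  refine ⟨U.toSubmodule, inferInstance, inferInstance, inferInstance, U.toRepresentation, hU, hUcu, fun hc1 z hz => ?_⟩
  · have h1 : glE b (z : (Fin 1 ⊕ Fin 1 → K) ≃ₗ[K] _) = Matrix.GeneralLinearGroup.scalar (Fin 2) (-1) := by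
      ext i j
      rw [coe_glE, LinearMap.toMatrix_apply]
      have e2 : ((z : (Fin 1 ⊕ Fin 1 → K) ≃ₗ[K] (Fin 1 ⊕ Fin 1 → K)) : _ →ₗ[K] _) (b j) = (-1 : K) • b j := by
        rw [neg_one_smul]; exact hz _
      rw [e2, map_smul, Finsupp.smul_apply, Basis.repr_self, smul_eq_mul, Matrix.GeneralLinearGroup.coe_scalar,
        Matrix.scalar_apply, Matrix.diagonal_apply, Finsupp.single_apply, Units.val_neg, Units.val_one]
      by_cases hij : i = j
      · simp [hij]
      · rw [if_neg hij, if_neg (Ne.symm hij), mul_zero]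
    have h2 : ρ₀ (glE b (z : (Fin 1 ⊕ Fin 1 → K) ≃ₗ[K] _)) = LinearMap.id := by
      rw [← Cfsg.Agent.Characters.Values.character_eq_finrank_iff, hρc, h1, hc1, ← hρc]
      simp
    refine LinearMap.ext fun m => Subtype.ext ?_
    rw [hUC]
    change ρ₀ (glE b (z : (Fin 1 ⊕ Fin 1 → K) ≃ₗ[K] _)) m = m
    rw [h2]
    rfl

/-- **cuspidal representations of `Sp_2(q)`** -/
theorem exists_cu [Fintype K] {r : ℕ} (hr : r.Prime) (hr2 : r ≠ 2) (h : r ∣ Nat.card K - 1) :
    ∃ (M : Type) (_ : AddCommGroup M) (_ : Module ℂ M) (_ : FiniteDimensional ℂ M)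
      (τ : Representation ℂ (CForm.spF K 1).iso M), τ.IsIrreducible ∧ Cu τ ∧
      (∀ z : (CForm.spF K 1).iso,
        (∀ x, (z : (Fin 1 ⊕ Fin 1 → K) ≃ₗ[K] (Fin 1 ⊕ Fin 1 → K)) x = -x) → τ z = 1) ∧ r ∣ finrank ℂ M := by
  classical
  have hr3 : 3 ≤ r := by
    have := hr.two_le
    omega
  obtain ⟨c, hc⟩ := exists_cus_sq K rfl 2 (by norm_num) (fun h2 => by
      rw [h2] at h
      have := Nat.le_of_dvd (by norm_num) h
      omega) (fun h2 => by
      rw [h2] at h
      have := Nat.le_of_dvd (by norm_num) h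
      omega) (fun _ => le_rfl)
  obtain ⟨M, i1, i2, i3, τ, hi, hcu, h1⟩ := cu_of_cusp K hc.irr hc.cusp
  refine ⟨M, i1, i2, i3, τ, hi, hcu, h1 (hc.scal (-1) neg_one_sq), ?_⟩
  obtain ⟨α, hα⟩ := exists_prime_orderOf_dvd_card' (G := Kˣ) (hp := ⟨hr⟩) r (by rw [Nat.card_units]; exact h)
  obtain ⟨t, ht1, ht2⟩ := exists_tor K α
  refine hcu.dvd_finrank (a := Pi.single (.inl 0) 1) ?_ hr hr2 hα ht1 (ht2 r (by rw [← hα]; exact pow_orderOf_eq_one α))
  intro h0
  have := congrFun h0 (.inl 0)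
  simp at this

/-- some cuspidal representation, for all `q` -/
theorem exists_cu_one [Fintype K] :
    ∃ (M : Type) (_ : AddCommGroup M) (_ : Module ℂ M) (_ : FiniteDimensional ℂ M)
      (τ : Representation ℂ (CForm.spF K 1).iso M), τ.IsIrreducible ∧ Cu τ := by
  classical
  obtain ⟨L, _, _, _, hL⟩ := exists_L K 2 (by norm_num)
  obtain ⟨θ, hθ⟩ := Cfsg.Agent.H139.Cusp.exists_theta L
  have hq : 1 < Nat.card K := Finite.one_lt_card
  have hR : Cfsg.Agent.H139.Cusp.Regular K 2 (Cfsg.Agent.H139.Cusp.powTheta θ 1 one_ne_zero) :=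
    (Cfsg.Agent.H139.Cusp.regular_powTheta_iff hθ one_ne_zero hL).2 fun i hi hi2 h => by
      have h1 : i = 1 := by omega
      rw [h1, one_mul, pow_one] at h
      have h2 := Nat.le_of_dvd (by omega) h
      have h3 : Nat.card K ^ 2 = Nat.card K * Nat.card K := pow_two _
      have h4 : 2 * Nat.card K ≤ Nat.card K * Nat.card K := Nat.mul_le_mul_right _ hq
      omega
  obtain ⟨M, i1, i2, i3, τ, hi, hcu, -⟩ := cu_of_cusp K (Cfsg.Agent.H139.Cusp.psi_isIrr _ hL hR)
    (Cfsg.Agent.H139.Cusp.psi_isCusp L _)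
  exact ⟨M, i1, i2, i3, τ, hi, hcu⟩

end exist

end Cfsg.Agent.H722.HC
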